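import Cfsg.Agent.Lib.M22Order.Elem

/-!
# Simple groups of order 443520: elementary subgroups of order 16 and the one of the setup

An elementary abelian subgroup of order 16 containing `t` meets `E` in at least four elements, a subgroup of
`E` through `t` invariant under `C(t)` has order 2 or at least 8, and two conjugates of `E` do not lie in a
common 2-subgroup.
-/

set_option autoImplicit false
set_option linter.style.haveILetI false
set_option linter.unusedSectionVars false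

namespace Cfsg.Agent.J4Eleven

open Subgroup
open Cfsg.Agent.M22Order
open scoped Pointwise

universe u

variable {G : Type u} [Group G] [Finite G] [IsSimpleGroup G] (hcard : Nat.card G = 443520) (S : Setup G)

include hcard

theorem card_two_sub_le {T : Subgroup G} (hT : IsPGroup 2 T) : Nat.card T ≤ 128 := by
  haveI : Fact (Nat.Prime 2) := ⟨Nat.prime_two⟩
  obtain ⟨Q, hQ⟩ := hT.exists_le_sylow
  exact (Nat.le_of_dvd Nat.card_pos (card_dvd_of_le hQ)).trans (card_sylow_two hcard Q).le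

/-- A conjugate of `E` other than `E` does not lie in a 2-group with it. -/
theorem mem_normalizer_of_common {g : G} {T : Subgroup G} (hT : IsPGroup 2 T) (h1 : S.E ≤ T)
    (h2 : ∀ e ∈ S.E, g * e * g⁻¹ ∈ T) : g ∈ normalizer (S.E : Set G) := by
  by_contra hg
  have htriv : ∀ e ∈ S.E, g * e * g⁻¹ ∈ S.E → e = 1 := fun e he hge => by
    by_contra h1'
    exact hg (S.unique hcard he h1' hge)
  let f : S.E × S.E → T := fun x => ⟨(x.1 : G) * (g * x.2 * g⁻¹), mul_mem (h1 x.1.2) (h2 _ x.2.2)⟩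
  have hinj : Function.Injective f := by
    rintro ⟨a, b⟩ ⟨a', b'⟩ e
    have e' : (a : G) * (g * b * g⁻¹) = a' * (g * b' * g⁻¹) := congrArg Subtype.val e
    have e2 : g * ((b : G) * (b' : G)⁻¹) * g⁻¹ = (a : G)⁻¹ * a' := by
      calc g * ((b : G) * (b' : G)⁻¹) * g⁻¹ = (a : G)⁻¹ * ((a : G) * (g * b * g⁻¹)) * (g * b' * g⁻¹)⁻¹ := by group
        _ = _ := by rw [e']; group
    have hb := htriv _ (mul_mem b.2 (inv_mem b'.2)) (e2 ▸ mul_mem (inv_mem a.2) a'.2)
    rw [hb, mul_one, mul_inv_cancel] at e2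
    exact Prod.ext (Subtype.ext (inv_mul_eq_one.1 e2.symm)) (Subtype.ext (mul_inv_eq_one.1 hb))
  have h := (Nat.card_le_card_of_injective f hinj).trans (card_two_sub_le hcard hT)
  rw [Nat.card_prod, S.card_E hcard] at h
  norm_num at h

theorem r_mem_C : S.r ∈ centralizer ({S.t} : Set G) := mem_centralizer_singleton_iff.2 S.hrt

theorem t_mem_E : S.t ∈ S.E := S.D_le hcard (S.t_mem_D hcard)

theorem r_cube (e : G) : S.r * (S.r * (S.r * e * S.r⁻¹) * S.r⁻¹) * S.r⁻¹ = e := by
  have h3 : S.r * S.r * S.r = 1 := by rw [← pow_three', ← S.hr, pow_orderOf_eq_one]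
  calc S.r * (S.r * (S.r * e * S.r⁻¹) * S.r⁻¹) * S.r⁻¹
      = (S.r * S.r * S.r) * e * (S.r * S.r * S.r)⁻¹ := by group
    _ = e := by rw [h3]; group

/-- No element of `E` is moved by `r` through a fixed element. -/
theorem eq_one_of_shift {e d : G} (he : e ∈ S.E) (hd : d ∈ S.E) (hfix : S.r * d * S.r⁻¹ = d)
    (hsh : S.r * e * S.r⁻¹ = e * d) : d = 1 := by
  have e1 := r_cube hcard S e
  have h2 : S.r * (e * d) * S.r⁻¹ = e * d * d := by
    rw [show S.r * (e * d) * S.r⁻¹ = S.r * e * S.r⁻¹ * (S.r * d * S.r⁻¹) by group, hsh, hfix]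
  have h3 : S.r * (e * d * d) * S.r⁻¹ = e * d * d * d := by
    rw [show S.r * (e * d * d) * S.r⁻¹ = S.r * (e * d) * S.r⁻¹ * (S.r * d * S.r⁻¹) by group, h2, hfix]
  rw [hsh, h2, h3, mul_assoc e d d, S.sq hcard hd, mul_one] at e1
  exact mul_eq_left.1 e1

theorem mem_D_of_fixed {e : G} (he : e ∈ S.E) (hfix : S.r * e * S.r⁻¹ = e) : e ∈ S.D :=
  mem_four_of_commute hcard S.ht S.hR S.hr S.hrt S.hP S.hrP S.hPc he (mul_inv_eq_iff_eq_mul.1 hfix).symm

theorem not_R_le_E : ¬ S.R ≤ S.E := fun h => by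
  have := Nat.le_of_dvd Nat.card_pos (card_dvd_of_le h)
  rw [S.hR.card, S.card_E hcard] at this
  omega

/-- A subgroup of `E` through `t` invariant under `C(t)` with a further element has order at least 8. -/
theorem eight_le_invariant {Y : Subgroup G} (hYE : Y ≤ S.E) (htY : S.t ∈ Y)
    (hinv : ∀ g, Commute g S.t → ∀ y ∈ Y, g * y * g⁻¹ ∈ Y) (hex : ∃ y ∈ Y, y ≠ 1 ∧ y ≠ S.t) :
    8 ≤ Nat.card Y := by
  classical
  have htfix : S.r * S.t * S.r⁻¹ = S.t := by rw [S.hrt.eq, mul_inv_cancel_right]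
  have ht1 : S.t ≠ 1 := fun e => by have := S.ht; rw [e, orderOf_one] at this; omega
  by_cases hYD : Y ≤ S.D
  · exfalso
    obtain ⟨u, huY, hu1, hut⟩ := hex
    have huD := hYD huY
    have hval : ∀ x ∈ S.R, x * u * x⁻¹ = u ∨ x * u * x⁻¹ = S.t * u := by
      intro x hx
      have hxt : Commute x S.t := mem_centralizer_singleton_iff.1 (S.hR.le hx)
      rcases S.eq_four hcard huD hu1 hut (hYD (hinv x hxt u huY)) with e | e | e | e
      · exact absurd (conj_eq_one_iff.1 e) hu1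
      · refine absurd ?_ hut
        have h' : x * u * x⁻¹ = x * S.t * x⁻¹ := by rw [e, hxt.eq, mul_inv_cancel_right]
        exact mul_left_cancel (mul_right_cancel h')
      · exact Or.inl e
      · exact Or.inr e
    by_cases hy : ∃ y ∈ S.R, y * u * y⁻¹ = S.t * u
    · obtain ⟨y, hy, hey⟩ := hy
      have hsub : (S.R : Set G) ⊆ (S.E : Set G) ∪ (fun w => y * w) '' (S.E : Set G) := by
        intro x hx
        rcases hval x hx with e | e
        · exact Or.inl (S.fix_u hcard hx huD hu1 hut (mul_inv_eq_iff_eq_mul.1 e))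
        · refine Or.inr ⟨y⁻¹ * x, S.fix_u hcard (mul_mem (inv_mem hy) hx) huD hu1 hut ?_, by simp⟩
          refine mul_inv_eq_iff_eq_mul.1 ?_
          calc y⁻¹ * x * u * (y⁻¹ * x)⁻¹ = y⁻¹ * (x * u * x⁻¹) * y := by group
            _ = u := by rw [e, ← hey]; group
      have h1 := (Set.ncard_le_ncard hsub).trans (Set.ncard_union_le _ _)
      have h2 := Set.ncard_image_le (f := fun w => y * w) (s := (S.E : Set G))
      simp only [← Nat.card_coe_set_eq, SetLike.coe_sort_coe] at h1 h2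
      rw [S.hR.card, S.card_E hcard] at h1
      rw [S.card_E hcard] at h2
      omega
    · push Not at hy
      exact not_R_le_E hcard S fun x hx => S.fix_u hcard hx huD hu1 hut
        (mul_inv_eq_iff_eq_mul.1 ((hval x hx).resolve_right (hy x hx)))
  · obtain ⟨y, hyY, hyD⟩ := SetLike.not_le_iff_exists.1 hYD
    set y₁ := S.r * y * S.r⁻¹ with hy₁
    have hy₁Y : y₁ ∈ Y := hinv S.r S.hrt y hyY
    set a := y * y₁ with ha
    have haY : a ∈ Y := mul_mem hyY hy₁Y
    have hy₁' : y₁ = y * a := by rw [ha, ← mul_assoc, S.sq hcard (hYE hyY), one_mul]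
    have hnf : ∀ d ∈ Y, S.r * d * S.r⁻¹ = d → a ≠ d := fun d hd hfix e => by
      rw [e] at hy₁'
      have hd1 := eq_one_of_shift hcard S (hYE hyY) (hYE hd) hfix hy₁'
      rw [hd1, mul_one] at hy₁'
      exact hyD (mem_D_of_fixed hcard S (hYE hyY) hy₁')
    have ha1 : a ≠ 1 := hnf 1 (one_mem _) (by group)
    have hat : a ≠ S.t := hnf S.t htY htfix
    have hanfix : S.r * a * S.r⁻¹ ≠ a := fun h => hnf a haY h rfl
    set a₁ := S.r * a * S.r⁻¹ with ha₁
    have ha₁Y : a₁ ∈ Y := hinv S.r S.hrt a haY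
    have ha₁1 : a₁ ≠ 1 := fun e => ha1 (conj_eq_one_iff.1 e)
    have ha₁t : a₁ ≠ S.t := fun e => hat (mul_left_cancel (mul_right_cancel (e.trans htfix.symm)))
    have ha₁ta : a₁ ≠ S.t * a := fun e => by
      have h := eq_one_of_shift hcard S (hYE haY) (t_mem_E hcard S) htfix
        (e.trans (S.comm hcard (t_mem_E hcard S) (hYE haY)).eq)
      exact ht1 h
    have hta1 : S.t * a ≠ 1 := fun e => hat (by
      calc a = S.t * S.t * a := by rw [S.sq hcard (t_mem_E hcard S), one_mul]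
        _ = S.t := by rw [mul_assoc, e, mul_one])
    have hta_t : S.t * a ≠ S.t := fun e => ha1 (mul_eq_left.1 e)
    have hta_a : S.t * a ≠ a := fun e => ht1 (mul_eq_right.1 e)
    have h5 : ({1, S.t, a, S.t * a, a₁} : Finset G).card = 5 := by
      rw [Finset.card_insert_of_notMem, Finset.card_insert_of_notMem, Finset.card_insert_of_notMem,
        Finset.card_insert_of_notMem, Finset.card_singleton]
      · simpa using ha₁ta.symm
      · simp [hta_a.symm, hanfix.symm]
      · simp [hat.symm, hta_t.symm, ha₁t.symm]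
      · simp [ht1.symm, ha1.symm, hta1.symm, ha₁1.symm]
    have hsub : (↑({1, S.t, a, S.t * a, a₁} : Finset G) : Set G) ⊆ (Y : Set G) := by
      intro x hx
      simp only [Finset.coe_insert, Finset.coe_singleton, Set.mem_insert_iff, Set.mem_singleton_iff] at hx
      rcases hx with rfl | rfl | rfl | rfl | rfl
      exacts [one_mem _, htY, haY, mul_mem htY haY, ha₁Y]
    have hle := Set.ncard_le_ncard hsub
    rw [Set.ncard_coe_finset, h5, ← Nat.card_coe_set_eq] at hle
    have hle' : 5 ≤ Nat.card Y := hle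
    have hdvd : Nat.card Y ∣ 2 ^ 4 := by
      rw [show (2 : ℕ) ^ 4 = 16 from rfl, ← S.card_E hcard]
      exact card_dvd_of_le hYE
    obtain ⟨k, hk, hk'⟩ := (Nat.dvd_prime_pow Nat.prime_two).1 hdvd
    rw [hk'] at hle' ⊢
    interval_cases k <;> omega

/-- An elementary abelian subgroup of order 16 through `t` meets `E` in more than `⟨t⟩`. -/
theorem exists_mem_inter {B : Subgroup G} (hB : Nat.card B = 16) (hsq : ∀ b ∈ B, b * b = 1) (htB : S.t ∈ B) :
    ∃ u ∈ B, u ∈ S.E ∧ u ≠ 1 ∧ u ≠ S.t := by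
  classical
  by_contra hno
  push Not at hno
  have hcomm : ∀ x ∈ B, ∀ y ∈ B, Commute x y := fun x hx y hy =>
    calc x * y = (x * y)⁻¹ := eq_inv_of_mul_eq_one_left (hsq _ (mul_mem hx hy))
      _ = y⁻¹ * x⁻¹ := mul_inv_rev x y
      _ = y * x := by
        rw [inv_eq_of_mul_eq_one_right (hsq x hx), inv_eq_of_mul_eq_one_right (hsq y hy)]
  set C := centralizer ({S.t} : Set G) with hC
  have hBC : B ≤ C := fun b hb => mem_centralizer_singleton_iff.2 (hcomm b hb _ htB)
  have hRC : S.R ≤ C := S.hR.le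
  have hCn : ∀ g ∈ C, ∀ x ∈ S.R, g * x * g⁻¹ ∈ S.R := fun g hg =>
    S.hR.conj g (mem_centralizer_singleton_iff.1 hg)
  have hEn : ∀ g ∈ C, ∀ x ∈ S.E, g * x * g⁻¹ ∈ S.E := fun g hg x hx =>
    conj_mem_of_mem_normalizer (S.C_le hcard hg) hx
  have hinter : Nat.card (B ⊓ S.E : Subgroup G) ≤ 2 := by
    have hsub : ((B ⊓ S.E : Subgroup G) : Set G) ⊆ {1, S.t} := fun x hx => by
      by_cases h1 : x = 1
      · exact Or.inl h1
      · exact Or.inr (hno x hx.1 hx.2 h1)
    have h1 := Set.ncard_le_ncard hsub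
    rw [← Nat.card_coe_set_eq] at h1
    exact h1.trans ((Set.ncard_insert_le _ _).trans (by simp))
  -- `B ∩ R` is large
  have hBR : 8 ≤ Nat.card (B ⊓ S.R : Subgroup G) := by
    set S' := S.R.subgroupOf C with hS'
    haveI : S'.Normal := ⟨fun x hx g => hCn g g.2 _ hx⟩
    have hidx : S'.index = 6 := by
      have h := S'.card_mul_index
      rw [Nat.card_congr (subgroupOfEquivOfLe hRC).toEquiv, S.hR.card,
        show Nat.card C = 384 from cen_involution hcard S.ht] at h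
      omega
    have h1 : (S.R.relIndex B) ∣ 6 := by
      rw [← hidx, ← relIndex_subgroupOf hBC]
      exact relIndex_dvd_index_of_normal _ _
    have h2 : Nat.card (B ⊓ S.R : Subgroup G) * S.R.relIndex B = 16 := by
      have := relIndex_mul_relIndex ⊥ (B ⊓ S.R) B bot_le inf_le_left
      rw [relIndex_bot_left, relIndex_bot_left, hB, inf_relIndex_left] at this
      exact this
    have h3 : S.R.relIndex B ∣ 16 := ⟨_, by rw [← h2, mul_comm]⟩
    have h4 : S.R.relIndex B ∣ 2 := by simpa using Nat.dvd_gcd h1 h3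
    have := Nat.le_of_dvd (by norm_num) h4
    interval_cases h : S.R.relIndex B <;> omega
  -- products
  have hprod : ∀ (X Y T : Subgroup G), X ≤ T → Y ≤ T →
      Nat.card X * Nat.card Y ≤ Nat.card T * Nat.card (X ⊓ Y : Subgroup G) := by
    intro X Y T hX hY
    obtain ⟨g, hg⟩ : ∃ g : X × Y → T, ∀ p, (g p : G) = p.1 * p.2 :=
      ⟨fun p => ⟨p.1 * p.2, mul_mem (hX p.1.2) (hY p.2.2)⟩, fun _ => rfl⟩
    rw [← Nat.card_prod]
    have key : ∀ p q : X × Y, g p = g q → (p.1 : G)⁻¹ * q.1 ∈ (X ⊓ Y : Subgroup G) := fun p q e => by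
      have e' := congrArg Subtype.val e
      rw [hg, hg] at e'
      refine mem_inf.2 ⟨mul_mem (inv_mem p.1.2) q.1.2, ?_⟩
      have : (p.1 : G)⁻¹ * q.1 = p.2 * (q.2 : G)⁻¹ := by
        rw [eq_mul_inv_iff_mul_eq, mul_assoc, ← e', inv_mul_cancel_left]
      rw [this]
      exact mul_mem p.2.2 (inv_mem q.2.2)
    let r0 : T → X × Y := fun t => if h : ∃ p, g p = t then h.choose else (1, 1)
    have hr0 : ∀ p, g (r0 (g p)) = g p := fun p => by
      simp only [r0]; rw [dif_pos ⟨p, rfl⟩]; exact (⟨p, rfl⟩ : ∃ q, g q = g p).choose_spec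
    let F : X × Y → T × (X ⊓ Y : Subgroup G) := fun p =>
      (g p, ⟨((r0 (g p)).1 : G)⁻¹ * p.1, key _ _ (hr0 p)⟩)
    have hF : Function.Injective F := by
      intro p q e
      have e1 : g p = g q := congrArg Prod.fst e
      have e2 : ((r0 (g p)).1 : G)⁻¹ * p.1 = ((r0 (g q)).1 : G)⁻¹ * q.1 :=
        congrArg (fun w : T × (X ⊓ Y : Subgroup G) => ((w.2 : G))) e
      rw [e1] at e2
      have h1 : p.1 = q.1 := Subtype.ext (mul_left_cancel e2)
      refine Prod.ext h1 (Subtype.ext ?_)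
      have e3 := congrArg Subtype.val e1
      rw [hg, hg, h1] at e3
      exact mul_left_cancel e3
    exact (Nat.card_le_card_of_injective F hF).trans (by rw [Nat.card_prod])
  -- `R = (B ∩ R) E`
  have hcover : ∀ x ∈ S.R, ∃ b ∈ B ⊓ S.R, ∃ e ∈ S.E, x = b * e := by
    let g : (B ⊓ S.R : Subgroup G) × S.E → S.R := fun p =>
      ⟨(p.1 : G) * p.2, mul_mem p.1.2.2 (S.E_le_R hcard p.2.2)⟩
    intro x hx
    by_contra hxn
    push Not at hxn
    have hsup : (B ⊓ S.R) ⊔ S.E ≤ S.R := sup_le inf_le_right (S.E_le_R hcard)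
    have hlt : (B ⊓ S.R) ⊔ S.E < S.R := by
      refine lt_of_le_of_ne hsup fun e => ?_
      have hx' : x ∈ (((B ⊓ S.R) ⊔ S.E : Subgroup G) : Set G) := by rw [e]; exact hx
      rw [coe_mul_of_left_le_normalizer_right (B ⊓ S.R) S.E
        (fun b hb => S.C_le hcard (hBC hb.1))] at hx'
      obtain ⟨b, hb, c, hc, ebc⟩ := hx'
      exact hxn b hb c hc ebc.symm
    have h1 := hprod (B ⊓ S.R) S.E ((B ⊓ S.R) ⊔ S.E) le_sup_left le_sup_right
    have h2 : Nat.card (B ⊓ S.R ⊓ S.E : Subgroup G) ≤ 2 :=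
      (Nat.le_of_dvd Nat.card_pos (card_dvd_of_le (inf_le_inf_right _ inf_le_left))).trans hinter
    have h3 : 2 * Nat.card ((B ⊓ S.R) ⊔ S.E : Subgroup G) ≤ 64 := by
      have hidx : 2 ≤ ((B ⊓ S.R) ⊔ S.E).relIndex S.R := by
        by_contra hh
        have hpos : ((B ⊓ S.R) ⊔ S.E).relIndex S.R ≠ 0 := by
          intro h0
          have := relIndex_mul_relIndex ⊥ _ _ bot_le hsup
          rw [relIndex_bot_left, relIndex_bot_left, h0, mul_zero, S.hR.card] at this
          norm_num at this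
        exact hlt.not_ge (relIndex_eq_one.1 (by omega))
      have := relIndex_mul_relIndex ⊥ _ _ bot_le hsup
      rw [relIndex_bot_left, relIndex_bot_left, S.hR.card] at this
      nlinarith
    rw [S.card_E hcard] at h1
    nlinarith
  -- elements trivial on `R / E`
  let Kc : Subgroup G :=
    { carrier := {g | g ∈ C ∧ ∀ x ∈ S.R, g * x * g⁻¹ * x⁻¹ ∈ S.E}
      one_mem' := ⟨one_mem _, fun x _ => by simp⟩
      mul_mem' := fun {g h} hg hh => ⟨mul_mem hg.1 hh.1, fun x hx => by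
        rw [show g * h * x * (g * h)⁻¹ * x⁻¹ = g * (h * x * h⁻¹ * x⁻¹) * g⁻¹ * (g * x * g⁻¹ * x⁻¹) by group]
        exact mul_mem (hEn g hg.1 _ (hh.2 x hx)) (hg.2 x hx)⟩
      inv_mem' := fun {g} hg => ⟨inv_mem hg.1, fun x hx => by
        rw [show g⁻¹ * x * g⁻¹⁻¹ * x⁻¹ = g⁻¹ * (g * x * g⁻¹ * x⁻¹)⁻¹ * g⁻¹⁻¹ by group]
        exact hEn _ (inv_mem hg.1) _ (inv_mem (hg.2 x hx))⟩ }
  have hBK : ∀ b ∈ B, b ∈ Kc := fun b hb => ⟨hBC hb, fun x hx => by
    obtain ⟨c, hc, e, he, rfl⟩ := hcover x hx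
    rw [show b * (c * e) * b⁻¹ * (c * e)⁻¹ = (b * c) * e * b⁻¹ * e⁻¹ * c⁻¹ by group, (hcomm b hb c hc.1).eq,
      show c * b * e * b⁻¹ * e⁻¹ * c⁻¹ = c * (b * e * b⁻¹ * e⁻¹) * c⁻¹ by group]
    exact hEn c (hBC hc.1) _ (mul_mem (hEn b (hBC hb) e he) (inv_mem he))⟩
  have hEK : ∀ e ∈ S.E, e ∈ Kc := fun e he => ⟨hRC (S.E_le_R hcard he), fun x hx => by
    rw [show e * x * e⁻¹ * x⁻¹ = e * (x * e⁻¹ * x⁻¹) by group]
    exact mul_mem he (hEn x (hRC hx) _ (inv_mem he))⟩
  have hRK : S.R ≤ Kc := fun x hx => by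
    obtain ⟨c, hc, e, he, rfl⟩ := hcover x hx
    exact mul_mem (hBK c hc.1) (hEK e he)
  have h3 : ¬ 3 ∣ Nat.card Kc := by
    intro hd
    haveI : Fact (Nat.Prime 3) := ⟨Nat.prime_three⟩
    obtain ⟨⟨r', hr'K⟩, hr'⟩ := exists_prime_orderOf_dvd_card' (G := Kc) 3 hd
    rw [Subgroup.orderOf_mk] at hr'
    have hr't : Commute r' S.t := mem_centralizer_singleton_iff.1 hr'K.1
    -- every coset of `E` in `R` has a fixed point
    have hfix : ∀ x ∈ S.R, ∃ y ∈ S.R, Commute y r' ∧ x⁻¹ * y ∈ S.E := by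
      intro x hx
      by_contra hnf
      push Not at hnf
      have hdvd := dvd_card_of_free_conj (zpowers r') ((fun e => x * e) '' (S.E : Set G)) ?_ ?_
      · rw [Nat.card_zpowers, hr', Set.ncard_image_of_injective _ (mul_right_injective x),
          ← Nat.card_coe_set_eq] at hdvd
        have h16 : Nat.card (S.E : Set G) = 16 := S.card_E hcard
        rw [h16] at hdvd
        norm_num at hdvd
      · rintro q hq _ ⟨e, he, rfl⟩
        have hqK : q ∈ Kc := (zpowers_le.2 hr'K) hq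
        refine ⟨x⁻¹ * (q * x * q⁻¹ * x⁻¹) * x * (q * e * q⁻¹),
          mul_mem ?_ (hEn q hqK.1 e he), by group⟩
        simpa using hEn x⁻¹ (inv_mem (hRC hx)) _ (hqK.2 x hx)
      · rintro q hq _ ⟨e, he, rfl⟩ hqe
        by_contra hq1
        refine hnf (x * e) (mul_mem hx (S.E_le_R hcard he)) ?_ (by simpa using he)
        have hqr : zpowers q = zpowers r' := eq_of_le_of_card_ge (zpowers_le.2 hq) (by
          rw [Nat.card_zpowers, Nat.card_zpowers, hr']
          have hd' := orderOf_dvd_natCard (⟨q, hq⟩ : zpowers r')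
          rw [Subgroup.orderOf_mk, Nat.card_zpowers, hr'] at hd'
          rcases (Nat.dvd_prime Nat.prime_three).1 hd' with e' | e'
          · exact absurd (orderOf_eq_one_iff.1 e') hq1
          · omega)
        obtain ⟨n, hn⟩ := mem_zpowers_iff.1 (hqr.symm ▸ mem_zpowers r' : r' ∈ zpowers q)
        exact hn ▸ (show Commute (x * e) q from (mul_inv_eq_iff_eq_mul.1 hqe).symm).zpow_right n
    choose pick hpickR hpickc hpickE using hfix
    set D' : Subgroup G := S.R ⊓ centralizer ({r'} : Set G) with hD'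
    have hD4 : Nat.card D' ≤ 4 := by
      rw [← (exists_four hcard hr').1]
      exact Nat.le_of_dvd Nat.card_pos
        (card_dvd_of_le (inf_centralizer_le hcard S.ht S.hR hr' hr't le_rfl))
    have hDE : 2 ≤ Nat.card (D' ⊓ S.E : Subgroup G) := by
      have htD' : S.t ∈ D' ⊓ S.E := mem_inf.2 ⟨mem_inf.2 ⟨S.E_le_R hcard (t_mem_E hcard S),
        mem_centralizer_singleton_iff.2 hr't.symm⟩, t_mem_E hcard S⟩
      calc 2 = Nat.card (zpowers S.t) := by rw [Nat.card_zpowers, S.ht]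
        _ ≤ _ := Nat.le_of_dvd Nat.card_pos (card_dvd_of_le (zpowers_le.2 htD'))
    have hR' : ∀ x ∈ S.R, x ∈ D' ⊔ S.E := fun x hx => by
      have h1 : pick x hx ∈ D' ⊔ S.E :=
        mem_sup_left (mem_inf.2 ⟨hpickR x hx, mem_centralizer_singleton_iff.2 (hpickc x hx)⟩)
      have h2 := mul_mem h1 (mem_sup_right (inv_mem (hpickE x hx)) : _ ∈ D' ⊔ S.E)
      simpa using h2
    have hn : D' ≤ normalizer (S.E : Set G) := inf_le_left.trans (S.R_normalizes hcard)
    have hmem : ∀ w : (D' ⊔ S.E : Subgroup G), ∃ d ∈ D', ∃ e ∈ S.E, d * e = (w : G) := by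
      intro w
      have h' : (w : G) ∈ ((D' ⊔ S.E : Subgroup G) : Set G) := w.2
      rw [coe_mul_of_left_le_normalizer_right D' S.E hn] at h'
      exact h'
    choose dd hdd ee hee hde using hmem
    have hcnt : Nat.card (D' ⊔ S.E : Subgroup G) * Nat.card (D' ⊓ S.E : Subgroup G) ≤ 4 * 16 := by
      rw [← Nat.card_prod]
      refine le_trans (Nat.card_le_card_of_injective
        (fun p : (D' ⊔ S.E : Subgroup G) × (D' ⊓ S.E : Subgroup G) =>
          ((⟨dd p.1 * p.2, mul_mem (hdd p.1) p.2.2.1⟩ : D'),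
            (⟨(p.2 : G)⁻¹ * ee p.1, mul_mem (inv_mem p.2.2.2) (hee p.1)⟩ : S.E))) ?_) ?_
      · rintro ⟨w, i⟩ ⟨w', i'⟩ e
        have e1 : dd w * (i : G) = dd w' * i' := congrArg (fun x : D' × S.E => (x.1 : G)) e
        have e2 : (i : G)⁻¹ * ee w = (i' : G)⁻¹ * ee w' := congrArg (fun x : D' × S.E => (x.2 : G)) e
        have hw : w = w' := Subtype.ext (by
          rw [← hde w, ← hde w']
          calc dd w * ee w = dd w * i * ((i : G)⁻¹ * ee w) := by group
            _ = dd w' * i' * ((i' : G)⁻¹ * ee w') := by rw [e1, e2]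
            _ = _ := by group)
        subst hw
        exact Prod.ext rfl (Subtype.ext (mul_left_cancel e1))
      · rw [Nat.card_prod, S.card_E hcard]
        exact Nat.mul_le_mul_right 16 hD4
    have h64 : 64 ≤ Nat.card (D' ⊔ S.E : Subgroup G) := by
      rw [← S.hR.card]
      exact Nat.le_of_dvd Nat.card_pos (card_dvd_of_le hR')
    nlinarith
  have hKR : Kc ≤ S.R := by
    refine S.hR.absorb S.r S.hr S.hrt Kc (fun x hx => hx.1)
      (S.isPGroup_of_not_three hcard (fun x hx => hx.1) h3) fun x hx => ?_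
    refine ⟨mul_mem (mul_mem (r_mem_C hcard S) hx.1) (inv_mem (r_mem_C hcard S)), fun w hw => ?_⟩
    rw [show S.r * x * S.r⁻¹ * w * (S.r * x * S.r⁻¹)⁻¹ * w⁻¹ =
      S.r * (x * (S.r⁻¹ * w * S.r) * x⁻¹ * (S.r⁻¹ * w * S.r)⁻¹) * S.r⁻¹ by group]
    refine hEn _ (r_mem_C hcard S) _ (hx.2 _ ?_)
    simpa using hCn _ (inv_mem (r_mem_C hcard S)) w hw
  have h := hprod B S.E S.R (fun b hb => hKR (hBK b hb)) (S.E_le_R hcard)
  rw [hB, S.card_E hcard, S.hR.card] at h
  omega

end Cfsg.Agent.J4Eleven
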