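import Cfsg.Agent.Lib.J4Local.LocMk
import Cfsg.Agent.Lib.J4Local.Three
import Cfsg.Agent.Lib.J4Local.Count
import Cfsg.Agent.Lib.J4Eleven.Hexad

/-!
# Janko four type: the fixed space of a hexad group on `E / ⟨z⟩`

The lifts of the elementary subgroup of order 16 of M22 form an elementary abelian group whose fixed space is
a singular subspace of order `2 ^ 6` equal to its own orthogonal, and two of them fix no more.
-/

set_option autoImplicit false
set_option linter.style.haveILetI false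
set_option linter.unusedSectionVars false

namespace Cfsg.Agent.J4Eleven

open Subgroup
open Cfsg.Agent.J4Local
open Cfsg.Agent.M22Order (Setup)

universe u

variable {G : Type u} [Group G] [Finite G]

/-- The local facts with a projection to M22 and a setup there. -/
structure Chart (z : G) (P : Subgroup G) where
  L : Loc z P
  π : ↥(CC z P) →* ↥Cfsg.Spor.M22
  surj : Function.Surjective π
  ker : π.ker = (P ⊔ zpowers z).subgroupOf (CC z P)
  simple : IsSimpleGroup ↥Cfsg.Spor.M22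
  S : Setup ↥Cfsg.Spor.M22

variable {z : G} {P : Subgroup G}

theorem exists_chart (hJ : JType z P) : Nonempty (Chart z P) := by
  haveI := Cfsg.Agent.Golay.M22TwoBlock.isSimple
  obtain ⟨π, hπ, hker⟩ := exists_pi hJ
  obtain ⟨S⟩ := M22Order.exists_setup Cfsg.Agent.Golay.M22Involution.card_M22
  exact ⟨⟨loc_of_jtype hJ, π, hπ, hker, Cfsg.Agent.Golay.M22TwoBlock.isSimple, S⟩⟩

/-- The fixed space of a set of elements. -/
def fixV (z : G) (s : Set G) : AddSubgroup (VV z) where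
  carrier := {v | ∀ c ∈ s, act z c v = v}
  zero_mem' := fun c _ => map_zero _
  add_mem' := fun {a b} ha hb c hc => by rw [map_add, ha c hc, hb c hc]
  neg_mem' := fun {a} ha c hc => by rw [map_neg, ha c hc]

theorem mem_fixV {s : Set G} {v : VV z} : v ∈ fixV z s ↔ ∀ c ∈ s, act z c v = v := Iff.rfl

theorem act_conj {g c : G} (hg : g ∈ HH z) (hc : c ∈ HH z) (v : VV z) :
    act z (g * c * g⁻¹) (act z g v) = act z g (act z c v) := by
  rw [← act_mul (mul_mem (mul_mem hg hc) (inv_mem hg)) hg, inv_mul_cancel_right, act_mul hg hc]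

/-- Commuting unipotent elements have a common fixed vector in an invariant subgroup. -/
theorem exists_common_fixed (h : JType z P) (s : Finset G) (hH : ∀ c ∈ s, c ∈ HH z)
    (hcomm : ∀ c ∈ s, ∀ d ∈ s, c * d = d * c) (hsq : ∀ c ∈ s, c * c = 1) (U : AddSubgroup (VV z))
    (hU : ∀ c ∈ s, ∀ v ∈ U, act z c v ∈ U) (hne : ∃ v ∈ U, v ≠ 0) :
    ∃ v ∈ U, v ≠ 0 ∧ ∀ c ∈ s, act z c v = v := by
  classical
  suffices key : ∀ t : Finset G, t ⊆ s → ∃ v ∈ U, v ≠ 0 ∧ ∀ c ∈ t, act z c v = v from key s Finset.Subset.rfl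
  intro t
  induction t using Finset.induction_on with
  | empty => intro _; obtain ⟨v, hv, hv0⟩ := hne; exact ⟨v, hv, hv0, by simp⟩
  | insert a t ha ih =>
    intro hts
    have has : a ∈ s := hts (Finset.mem_insert_self a t)
    obtain ⟨v, hv, hv0, hfix⟩ := ih fun x hx => hts (Finset.mem_insert_of_mem hx)
    by_cases hav : act z a v = v
    · exact ⟨v, hv, hv0, fun c hc => (Finset.mem_insert.1 hc).elim (fun e => e ▸ hav) (hfix c)⟩
    refine ⟨act z a v + v, add_mem (hU a has v hv) hv, fun e => hav (VV.eq_of_add h e), fun c hc => ?_⟩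
    rcases Finset.mem_insert.1 hc with rfl | hc
    · rw [map_add, ← act_mul (hH c has) (hH c has), hsq c has, act_one, add_comm]
    · have hcs : c ∈ s := hts (Finset.mem_insert_of_mem hc)
      rw [map_add, ← act_mul (hH c hcs) (hH a has), hcomm c hcs a has, act_mul (hH a has) (hH c hcs), hfix c hc]

namespace Chart

variable (X : Chart z P)

instance : IsSimpleGroup ↥Cfsg.Spor.M22 := Cfsg.Agent.Golay.M22TwoBlock.isSimple

include X in
theorem hcard : Nat.card ↥Cfsg.Spor.M22 = 443520 := Cfsg.Agent.Golay.M22Involution.card_M22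

theorem mem_ker_iff (c : ↥(CC z P)) : X.π c = 1 ↔ (c : G) ∈ P ⊔ zpowers z := by
  rw [← MonoidHom.mem_ker, X.ker, mem_subgroupOf]

include X in
theorem zz : z * z = 1 := X.L.J.ctr.zz

include X in
theorem z_mem_six : z ∈ P ⊔ zpowers z := mem_sup_right (mem_zpowers z)

include X in
theorem z_mem_EE : z ∈ EE z := X.L.J.ctr.z_mem

include X in
theorem z_mem_CC : z ∈ CC z P := six_le X.L.J X.z_mem_six

include X in
theorem mem_zpowers_of_six {k : G} (hk : k ∈ P ⊔ zpowers z) (h2 : k * k ∈ zpowers z) : k ∈ zpowers z := by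
  have h3 := six_cube X.L.J hk
  rw [show k ^ 3 = k * k * k by rw [pow_three']] at h3
  rw [show k = (k * k)⁻¹ * (k * k * k) by group]
  exact mul_mem (inv_mem h2) h3

include X in
theorem sq_of_zpowers {k : G} (hk : k ∈ zpowers z) : k * k = 1 := by
  rcases X.L.J.mem_zpowers hk with rfl | rfl
  · rw [one_mul]
  · exact X.zz

include X in
/-- An element of `C` with square in `⟨z⟩` has square one. -/
theorem sq_one {c : G} (hc : c ∈ CC z P) (h2 : c * c ∈ zpowers z) : c * c = 1 := by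
  have hz6 : zpowers z ≤ P ⊔ zpowers z := le_sup_right
  by_cases h1 : X.π ⟨c, hc⟩ = 1
  · exact X.sq_of_zpowers (X.mem_zpowers_of_six ((X.mem_ker_iff _).1 h1) h2)
  have hm : orderOf (X.π ⟨c, hc⟩) = 2 := orderOf_eq_prime (by
    rw [pow_two, ← map_mul]
    exact (X.mem_ker_iff _).2 (hz6 h2)) h1
  obtain ⟨u, hu2, hu⟩ := exists_involution_lift X.L.J X.surj X.ker hm
  have huu : (u : G) * u = 1 := by rw [← pow_two, ← SubmonoidClass.coe_pow, ← hu2, pow_orderOf_eq_one]; rfl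
  have hk : (u : G)⁻¹ * c ∈ P ⊔ zpowers z := (X.mem_ker_iff (u⁻¹ * ⟨c, hc⟩)).1 (by
    rw [map_mul, map_inv, hu, inv_mul_cancel])
  set k := (u : G)⁻¹ * c with hkdef
  have hcu : c = (u : G) * k := by rw [hkdef, mul_inv_cancel_left]
  have hkc : Commute k (u : G) := six_central X.L.J hk u.2
  have hsq : c * c = k * k := by
    rw [hcu, hkc.eq.symm]
    calc k * (u : G) * (k * u) = k * ((u : G) * k) * u := by group
      _ = k * k * ((u : G) * u) := by rw [← hkc.eq]; group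
      _ = k * k := by rw [huu, mul_one]
  rw [hsq] at h2 ⊢
  exact X.sq_of_zpowers (X.mem_zpowers_of_six hk h2)

/-- The lifts of the elementary subgroup of order 16. -/
def LE : Subgroup G where
  carrier := {c | ∃ hc : c ∈ CC z P, X.π ⟨c, hc⟩ ∈ X.S.E ∧ c * c = 1}
  one_mem' := ⟨one_mem _, by
    rw [show (⟨1, one_mem _⟩ : ↥(CC z P)) = 1 from rfl, map_one]; exact one_mem _, one_mul 1⟩
  mul_mem' := by
    rintro a b ⟨ha, hπa, ha2⟩ ⟨hb, hπb, hb2⟩
    have hab := mul_mem hπa hπb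
    rw [← map_mul] at hab
    refine ⟨mul_mem ha hb, hab, ?_⟩
    have hs6 : a * b * (a * b) ∈ P ⊔ zpowers z := (X.mem_ker_iff (⟨a, ha⟩ * ⟨b, hb⟩ * (⟨a, ha⟩ * ⟨b, hb⟩))).1 (by
      rw [map_mul]; exact X.S.sq X.hcard hab)
    set s := a * b * (a * b) with hs
    have hcen : Commute s a := six_central X.L.J hs6 ha
    have hinv : s * s = 1 := by
      have h1 : a * s * a = (b * a) * (b * a) := by
        rw [hs]
        calc a * (a * b * (a * b)) * a = (a * a) * b * a * (b * a) := by group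
          _ = _ := by rw [ha2, one_mul]
      rw [← hcen.eq, mul_assoc, ha2, mul_one] at h1
      calc s * s = (a * b * (a * b)) * ((b * a) * (b * a)) := by rw [← h1]
        _ = a * b * a * (b * b) * a * b * a := by group
        _ = a * b * (a * a) * b * a := by rw [hb2]; group
        _ = a * (b * b) * a := by rw [ha2]; group
        _ = 1 := by rw [hb2, mul_one, ha2]
    have hz : s ∈ zpowers z := X.mem_zpowers_of_six hs6 (by rw [hinv]; exact one_mem _)
    exact X.sq_one (mul_mem ha hb) hz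
  inv_mem' := by
    rintro a ⟨ha, hπ, h2⟩
    rw [show a⁻¹ = a from inv_eq_of_mul_eq_one_right h2]
    exact ⟨ha, hπ, h2⟩

theorem LE_le_CC : X.LE ≤ CC z P := fun _ hc => hc.1

theorem LE_comm {a b : G} (ha : a ∈ X.LE) (hb : b ∈ X.LE) : a * b = b * a := by
  obtain ⟨-, -, h⟩ := mul_mem ha hb
  obtain ⟨-, -, ha2⟩ := ha
  obtain ⟨-, -, hb2⟩ := hb
  calc a * b = (a * b)⁻¹ := eq_inv_of_mul_eq_one_left h
    _ = b⁻¹ * a⁻¹ := mul_inv_rev a b
    _ = b * a := by rw [inv_eq_of_mul_eq_one_right ha2, inv_eq_of_mul_eq_one_right hb2]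

theorem exists_lift {m : ↥Cfsg.Spor.M22} (hm : m ∈ X.S.E) :
    ∃ c, ∃ hc : c ∈ X.LE, X.π ⟨c, X.LE_le_CC hc⟩ = m := by
  by_cases h1 : m = 1
  · refine ⟨1, one_mem _, ?_⟩
    rw [h1]
    exact map_one X.π
  obtain ⟨u, hu2, hu⟩ := exists_involution_lift X.L.J X.surj X.ker (X.S.orderOf_mem X.hcard hm h1)
  have huu : (u : G) * u = 1 := by rw [← pow_two, ← SubmonoidClass.coe_pow, ← hu2, pow_orderOf_eq_one]; rfl
  exact ⟨(u : G), ⟨u.2, by rw [show (⟨(u : G), u.2⟩ : ↥(CC z P)) = u from rfl, hu]; exact hm, huu⟩, hu⟩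

theorem lift_act_eq {c c' : G} (hc : c ∈ CC z P) (hc' : c' ∈ CC z P) (h2 : c * c = 1) (h2' : c' * c' = 1)
    (e : X.π ⟨c, hc⟩ = X.π ⟨c', hc'⟩) (v : VV z) : act z c v = act z c' v := by
  have hk : c'⁻¹ * c ∈ P ⊔ zpowers z := (X.mem_ker_iff (⟨c', hc'⟩⁻¹ * ⟨c, hc⟩)).1 (by
    rw [map_mul, map_inv, e, inv_mul_cancel])
  set k := c'⁻¹ * c with hkdef
  have hck : c = c' * k := by rw [hkdef, mul_inv_cancel_left]
  have hkc : Commute k c' := six_central X.L.J hk hc'
  have hk2 : k * k = 1 := by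
    calc k * k = k * k * (c' * c') := by rw [h2', mul_one]
      _ = k * (k * c') * c' := by group
      _ = k * (c' * k) * c' := by rw [hkc.eq]
      _ = (k * c') * (k * c') := by group
      _ = 1 := by rw [hkc.eq, ← hck, h2]
  have hkz := X.mem_zpowers_of_six hk (by rw [hk2]; exact one_mem _)
  rw [hck, act_mul_EE X.L.J hc'.1]
  exact zpowers_le.2 X.z_mem_EE hkz

/-- An element normalising `E` in M22 conjugates lifts to lifts. -/
theorem conj_mem_LE {d : G} (hd : d ∈ CC z P) (hn : X.π ⟨d, hd⟩ ∈ normalizer (X.S.E : Set ↥Cfsg.Spor.M22))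
    {c : G} (hc : c ∈ X.LE) : d * c * d⁻¹ ∈ X.LE := by
  obtain ⟨hcC, hπ, h2⟩ := hc
  refine ⟨mul_mem (mul_mem hd hcC) (inv_mem hd), ?_, ?_⟩
  · rw [show (⟨d * c * d⁻¹, mul_mem (mul_mem hd hcC) (inv_mem hd)⟩ : ↥(CC z P)) =
      ⟨d, hd⟩ * ⟨c, hcC⟩ * ⟨d, hd⟩⁻¹ from rfl, map_mul, map_mul, map_inv]
    exact M22Order.conj_mem_of_mem_normalizer hn hπ
  · calc d * c * d⁻¹ * (d * c * d⁻¹) = d * (c * c) * d⁻¹ := by group
      _ = 1 := by rw [h2]; group

theorem exists_sylow_three : ∃ T : Subgroup G, T ≤ CC z P ∧ Nat.card T = 27 ∧ P ≤ T ∧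
    ∀ d (hd : d ∈ T) (hdC : d ∈ CC z P), X.π ⟨d, hdC⟩ ∈ X.S.P := by
  haveI : Fact (Nat.Prime 3) := ⟨Nat.prime_three⟩
  set Q := X.S.P.comap X.π with hQ
  have hQc : Nat.card Q = 54 := by
    have h1 := Q.card_mul_index
    have h2 := X.S.P.card_mul_index
    rw [hQ, index_comap_of_surjective _ X.surj, card_CP X.L.J, ← hQ] at h1
    rw [X.S.hP, X.hcard] at h2
    rw [show X.S.P.index = 49280 by omega] at h1
    omega
  obtain ⟨K, hK⟩ := Sylow.exists_subgroup_card_pow_prime (G := Q) 3 (n := 3) (by rw [hQc]; norm_num)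
  refine ⟨(K.map Q.subtype).map (CC z P).subtype, map_subtype_le _, ?_, ?_, ?_⟩
  · rw [card_map_of_injective (CC z P).subtype_injective, card_map_of_injective Q.subtype_injective, hK]
    norm_num
  · exact P_le_T X.L.J (map_subtype_le _) (by
      rw [card_map_of_injective (CC z P).subtype_injective, card_map_of_injective Q.subtype_injective, hK]
      norm_num)
  · rintro d ⟨e, ⟨f, -, rfl⟩, rfl⟩ hdC
    exact f.2

/-- An invariant subgroup of `E / ⟨z⟩` under an extraspecial 3-group has order a power of 64. -/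
theorem card_cube {T : Subgroup G} (hT : T ≤ CC z P) (hT27 : Nat.card T = 27)
    (hab : ∀ d (hd : d ∈ T) (hdC : d ∈ CC z P), X.π ⟨d, hdC⟩ ∈ X.S.P) (U : AddSubgroup (VV z))
    (hU : ∀ d ∈ T, ∀ v ∈ U, act z d v ∈ U) : ∃ e, Nat.card U = 64 ^ e := by
  classical
  have hJ := X.L.J
  have hPT := P_le_T hJ hT hT27
  obtain ⟨⟨s, hs⟩, ⟨r, hr⟩, hne⟩ : ∃ a b : T, a * b ≠ b * a := by
    by_contra hcon
    push Not at hcon
    exact not_comm_T hJ hT hT27 hcon
  have hne' : s * r ≠ r * s := fun e => hne (Subtype.ext e)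
  set q := s * r * s⁻¹ * r⁻¹ with hq
  have hqT : q ∈ T := mul_mem (mul_mem (mul_mem hs hr) (inv_mem hs)) (inv_mem hr)
  have hqP : q ∈ P := by
    refine six_inf_T hJ hT hT27 ((X.mem_ker_iff (⟨s, hT hs⟩ * ⟨r, hT hr⟩ * ⟨s, hT hs⟩⁻¹ * ⟨r, hT hr⟩⁻¹)).1 ?_) hqT
    rw [map_mul, map_mul, map_mul, map_inv, map_inv,
      X.S.hPc _ (hab s hs (hT hs)) _ (hab r hr (hT hr)), mul_inv_cancel_right, mul_inv_cancel]
  have hq1 : q ≠ 1 := fun e => hne' (by
    rw [hq, mul_inv_eq_one, mul_inv_eq_iff_eq_mul] at e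
    exact e)
  have hsr : s * r * s⁻¹ = q * r := by rw [hq]; group
  have hqH := hJ.P_le_HH hqP
  have hrH : r ∈ HH z := (hT hr).1
  have hsH : s ∈ HH z := (hT hs).1
  have hqc : ∀ d ∈ T, q * d = d * q := fun d hd => (commute_CC_P (hT hd) hqP).symm
  have hq3 : q ^ 3 = 1 := pow_three_eq_one hJ hqP
  have hr3 : r * r * r = 1 := by rw [← pow_three']; exact T_pow_three hJ hT hT27 hr
  -- the three twisted fixed spaces
  let g : ℕ → G := fun i => q ^ i * r
  have hgT : ∀ i, g i ∈ T := fun i => mul_mem (pow_mem hqT i) hr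
  have hgH : ∀ i, g i ∈ HH z := fun i => (hT (hgT i)).1
  let Fi : ℕ → AddSubgroup (VV z) := fun i => U ⊓ (nil z (g i)).ker
  have hFi : ∀ i v, v ∈ Fi i ↔ v ∈ U ∧ act z (g i) v = v := fun i v =>
    and_congr_right fun _ => mem_ker_nil hJ
  have hgq : ∀ i v, act z (g i) (act z q v) = act z q (act z (g i) v) := fun i v => by
    rw [← act_mul (hgH i) hqH, ← hqc _ (hgT i), act_mul hqH (hgH i)]
  -- a vector of `Fi i` under `r`
  have hr_act : ∀ i v, v ∈ Fi i → act z (q ^ i) (act z r v) = v := fun i v hv => by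
    rw [← act_mul (pow_mem hqH i) hrH]; exact ((hFi i v).1 hv).2
  let w : VV z → VV z := fun v => act z q v
  have hww : ∀ v, w (w v) = v + w v := fun v => act_act hJ hqP hq1 v
  have hw3 : ∀ v, w (w (w v)) = v := fun v => by
    show act z q (act z q (act z q v)) = v
    rw [← act_mul hqH hqH, ← act_mul (mul_mem hqH hqH) hqH, ← pow_three', hq3, act_one]
  have h2 : ∀ v : VV z, v + v = 0 := VV.two hJ
  -- projections
  let e : ℕ → VV z → VV z := fun i v => v + act z (g i) v + act z (g i) (act z (g i) v)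
  have he0 : ∀ v, e 0 v = v + act z r v + act z r (act z r v) := fun v => by simp [e, g]
  have he1 : ∀ v, e 1 v = v + w (act z r v) + w (w (act z r (act z r v))) := fun v => by
    show v + act z (q ^ 1 * r) v + act z (q ^ 1 * r) (act z (q ^ 1 * r) v) = _
    rw [pow_one, act_mul hqH hrH, act_mul hqH hrH]
    have : act z r (act z q (act z r v)) = act z q (act z r (act z r v)) := by
      rw [← act_mul hrH hqH, ← hqc r hr, act_mul hqH hrH]
    rw [this]
  have he2 : ∀ v, e 2 v = v + w (w (act z r v)) + w (act z r (act z r v)) := fun v => by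
    show v + act z (q ^ 2 * r) v + act z (q ^ 2 * r) (act z (q ^ 2 * r) v) = _
    rw [pow_two, act_mul (mul_mem hqH hqH) hrH, act_mul (mul_mem hqH hqH) hrH, act_mul hqH hqH, act_mul hqH hqH]
    have hrq : ∀ u, act z r (act z q u) = act z q (act z r u) := fun u => by
      rw [← act_mul hrH hqH, ← hqc r hr, act_mul hqH hrH]
    rw [hrq, hrq]
    show _ + w (w (w (w (act z r (act z r v))))) = _
    rw [hw3]
  have hsum : ∀ v, e 0 v + e 1 v + e 2 v = v := fun v => by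
    rw [he0, he1, he2, hww (act z r v), hww (act z r (act z r v))]
    generalize act z r (act z r v) = c
    generalize act z r v = b
    generalize w b = wb
    generalize w c = wc
    calc (v + b + c) + (v + wb + (c + wc)) + (v + (b + wb) + wc)
        = (v + v) + v + (b + b) + (c + c) + (wb + wb) + (wc + wc) := by abel
      _ = v := by simp [h2]
  have hg3 : ∀ i, g i * g i * g i = 1 := fun i => by rw [← pow_three']; exact T_pow_three hJ hT hT27 (hgT i)
  have hthree : ∀ y ∈ HH z, y * y * y = 1 → ∀ v : VV z,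
      act z y (v + act z y v + act z y (act z y v)) = v + act z y v + act z y (act z y v) := fun y hy hy3 v => by
    rw [map_add, map_add, ← act_mul hy hy v, ← act_mul hy (mul_mem hy hy) v, ← mul_assoc, hy3, act_one]
    abel
  have hemem : ∀ i, ∀ v ∈ U, e i v ∈ Fi i := fun i v hv => (hFi i _).2
    ⟨add_mem (add_mem hv (hU _ (hgT i) v hv)) (hU _ (hgT i) _ (hU _ (hgT i) v hv)),
      hthree _ (hgH i) (hg3 i) v⟩
  have he_self : ∀ i, ∀ v ∈ Fi i, e i v = v := fun i v hv => by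
    have hh := ((hFi i v).1 hv).2
    show v + act z (g i) v + act z (g i) (act z (g i) v) = v
    rw [hh, hh, h2, zero_add]
  have he_kill : ∀ i j, i < 3 → j < 3 → i ≠ j → ∀ v ∈ Fi i, e j v = 0 := fun i j hi hj hij v hv => by
    have hh := hr_act i v hv
    -- `g j` acts on `v` as a non-trivial power of `q`
    have hr' : act z r v = act z (q ^ (2 * i)) v := by
      conv_rhs => rw [← hh]
      rw [← act_mul (pow_mem hqH _) (pow_mem hqH i), ← pow_add,
        show 2 * i + i = 3 * i by ring, pow_mul, hq3, one_pow, act_one]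
    have hgj : ∀ u, act z r u = act z (q ^ (2 * i)) u → act z (g j) u = act z (q ^ (j + 2 * i)) u := fun u hu => by
      show act z (q ^ j * r) u = _
      rw [act_mul (pow_mem hqH j) hrH, hu, ← act_mul (pow_mem hqH j) (pow_mem hqH _), ← pow_add]
    have hmod : q ^ (j + 2 * i) = q ∨ q ^ (j + 2 * i) = q * q := by
      have hpm : q ^ (j + 2 * i) = q ^ ((j + 2 * i) % 3) := (pow_mod_orderOf q _).symm.trans (by
        rw [orderOf_eq_prime hq3 hq1])
      rw [hpm]
      interval_cases i <;> interval_cases j <;> simp [pow_two] at hij ⊢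
    have hrr : ∀ u, act z r (act z q u) = act z q (act z r u) := fun u => by
      rw [← act_mul hrH hqH, ← hqc r hr, act_mul hqH hrH]
    have hstep : act z (g j) (act z (g j) v) = act z (q ^ (j + 2 * i)) (act z (q ^ (j + 2 * i)) v) := by
      rw [hgj v hr']
      rw [← act_mul (hgH j) (pow_mem hqH _), (Commute.pow_left (hqc _ (hgT j)) _).symm.eq,
        act_mul (pow_mem hqH _) (hgH j), hgj v hr']
    show v + act z (g j) v + act z (g j) (act z (g j) v) = 0
    rw [hstep, hgj v hr']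
    rcases hmod with m | m <;> rw [m]
    · show v + w v + w (w v) = 0
      rw [hww, h2]
    · rw [act_mul hqH hqH, act_mul hqH hqH]
      show v + w (w v) + w (w (w (w v))) = 0
      rw [hw3, hww, ← add_assoc v v, h2, zero_add, h2]
  have hbij : Function.Bijective (fun p : Fi 0 × Fi 1 × Fi 2 =>
      (⟨(p.1 : VV z) + p.2.1 + p.2.2, add_mem (add_mem p.1.2.1 p.2.1.2.1) p.2.2.2.1⟩ : U)) := by
    constructor
    · rintro ⟨a, b, c⟩ ⟨a', b', c'⟩ eq
      have eq' : (a : VV z) + b + c = a' + b' + c' := congrArg Subtype.val eq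
      have hadd : ∀ i (x y : VV z), e i (x + y) = e i x + e i y := fun i x y => by
        show (x + y) + act z (g i) (x + y) + act z (g i) (act z (g i) (x + y)) = _
        simp only [map_add, e]
        abel
      refine Prod.ext (Subtype.ext ?_) (Prod.ext (Subtype.ext ?_) (Subtype.ext ?_))
      · have := congrArg (e 0) eq'
        simpa only [hadd, he_self 0 _ a.2, he_self 0 _ a'.2,
          he_kill 1 0 (by omega) (by omega) (by omega) _ b.2, he_kill 1 0 (by omega) (by omega) (by omega) _ b'.2,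
          he_kill 2 0 (by omega) (by omega) (by omega) _ c.2, he_kill 2 0 (by omega) (by omega) (by omega) _ c'.2,
          add_zero] using this
      · have := congrArg (e 1) eq'
        simpa only [hadd, he_self 1 _ b.2, he_self 1 _ b'.2,
          he_kill 0 1 (by omega) (by omega) (by omega) _ a.2, he_kill 0 1 (by omega) (by omega) (by omega) _ a'.2,
          he_kill 2 1 (by omega) (by omega) (by omega) _ c.2, he_kill 2 1 (by omega) (by omega) (by omega) _ c'.2,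
          add_zero, zero_add] using this
      · have := congrArg (e 2) eq'
        simpa only [hadd, he_self 2 _ c.2, he_self 2 _ c'.2,
          he_kill 0 2 (by omega) (by omega) (by omega) _ a.2, he_kill 0 2 (by omega) (by omega) (by omega) _ a'.2,
          he_kill 1 2 (by omega) (by omega) (by omega) _ b.2, he_kill 1 2 (by omega) (by omega) (by omega) _ b'.2,
          add_zero, zero_add] using this
    · rintro ⟨v, hv⟩
      exact ⟨(⟨_, hemem 0 v hv⟩, ⟨_, hemem 1 v hv⟩, ⟨_, hemem 2 v hv⟩), Subtype.ext (hsum v)⟩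
  have hshift : ∀ i, Nat.card (Fi i) ≤ Nat.card (Fi (i + 1)) := fun i => by
    have hconj : s * g i * s⁻¹ = g (i + 1) := by
      show s * (q ^ i * r) * s⁻¹ = q ^ (i + 1) * r
      rw [pow_succ, mul_assoc (q ^ i) q r, ← hsr]
      calc s * (q ^ i * r) * s⁻¹ = (s * q ^ i) * r * s⁻¹ := by group
        _ = (q ^ i * s) * r * s⁻¹ := by rw [((show Commute q s from hqc s hs).pow_left i).eq]
        _ = _ := by group
    refine Nat.card_le_card_of_injective (fun v => ⟨act z s v, (hFi _ _).2 ⟨hU s hs v v.2.1, ?_⟩⟩)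
      fun a b hab => Subtype.ext (act_injective hsH (congrArg Subtype.val hab))
    rw [← hconj, act_conj hsH (hgH i), ((hFi i v).1 v.2).2]
  have hcc : g 3 = g 0 := by show q ^ 3 * r = q ^ 0 * r; rw [hq3, pow_zero]
  have h30 : Fi 3 = Fi 0 := by show U ⊓ (nil z (g 3)).ker = U ⊓ (nil z (g 0)).ker; rw [hcc]
  have e01 := hshift 0
  have e12 := hshift 1
  have e23 := hshift 2
  simp only [Nat.zero_add, Nat.reduceAdd] at e01 e12 e23
  rw [h30] at e23
  obtain ⟨k, -, hk⟩ := card_invariant hJ hqP hq1 (W := Fi 0) fun v hv => (hFi 0 _).2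
    ⟨hU q hqT v hv.1, by rw [hgq, ((hFi 0 v).1 hv).2]⟩
  refine ⟨k, ?_⟩
  rw [← Nat.card_congr (Equiv.ofBijective _ hbij), Nat.card_prod, Nat.card_prod,
    show Nat.card (Fi 1) = Nat.card (Fi 0) by omega, show Nat.card (Fi 2) = Nat.card (Fi 0) by omega, hk,
    show (64 : ℕ) = 4 * (4 * 4) by norm_num, mul_pow, mul_pow]

/-- The fixed space of the lifts. -/
def WV : AddSubgroup (VV z) := fixV z (X.LE : Set G)

theorem t_lift : ∃ c, ∃ hc : c ∈ X.LE, X.π ⟨c, X.LE_le_CC hc⟩ = X.S.t :=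
  X.exists_lift (X.S.D_le X.hcard (X.S.t_mem_D X.hcard))

theorem not_mem_EE {c : G} (hc : c ∈ CC z P) (h : X.π ⟨c, hc⟩ ≠ 1) : c ∉ EE z := fun hE =>
  h ((X.mem_ker_iff _).2 (mem_sup_right (X.L.J.CC_inf_EE hc hE)))

theorem card_ker_lift {c : G} (hc : c ∈ CC z P) (h2 : c * c = 1) (h : X.π ⟨c, hc⟩ ≠ 1) :
    Nat.card (nil z c).ker = 2 ^ 8 :=
  card_ker_inner X.L (CC_le_H0 z P hc) (X.not_mem_EE hc h) (by rw [h2]; exact one_mem _)

theorem WV_invariant {d : G} (hd : d ∈ CC z P)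
    (hn : X.π ⟨d, hd⟩ ∈ normalizer (X.S.E : Set ↥Cfsg.Spor.M22)) {v : VV z} (hv : v ∈ X.WV) :
    act z d v ∈ X.WV := fun c hc => by
  have hn' : X.π ⟨d⁻¹, inv_mem hd⟩ ∈ normalizer (X.S.E : Set ↥Cfsg.Spor.M22) := by
    rw [show (⟨d⁻¹, inv_mem hd⟩ : ↥(CC z P)) = ⟨d, hd⟩⁻¹ from rfl, map_inv]; exact inv_mem hn
  have h1 := X.conj_mem_LE (inv_mem hd) hn' hc
  have h2 := act_conj hd.1 (X.LE_le_CC h1).1 v
  rw [show d * (d⁻¹ * c * d⁻¹⁻¹) * d⁻¹ = c by group, hv _ h1] at h2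
  exact h2

theorem card_WV : Nat.card X.WV = 2 ^ 6 ∧ perp X.L.J X.WV = X.WV := by
  classical
  haveI := Fintype.ofFinite G
  have hJ := X.L.J
  obtain ⟨T, hT, hT27, hPT, hab⟩ := X.exists_sylow_three
  have hTn : ∀ d (hd : d ∈ T), X.π ⟨d, hT hd⟩ ∈ normalizer (X.S.E : Set ↥Cfsg.Spor.M22) := fun d hd =>
    X.S.P_le X.hcard (hab d hd (hT hd))
  have hWT : ∀ d ∈ T, ∀ v ∈ X.WV, act z d v ∈ X.WV := fun d hd v hv => X.WV_invariant (hT hd) (hTn d hd) hv
  let s : Finset G := Finset.univ.filter (fun c => c ∈ X.LE)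
  have hs : ∀ c, c ∈ s ↔ c ∈ X.LE := fun c => by simp [s]
  have hcommon : ∀ U : AddSubgroup (VV z), (∀ c ∈ X.LE, ∀ v ∈ U, act z c v ∈ U) → (∃ v ∈ U, v ≠ 0) →
      ∃ v ∈ U, v ≠ 0 ∧ v ∈ X.WV := fun U hU hne => by
    obtain ⟨v, hv, hv0, hfix⟩ := exists_common_fixed hJ s (fun c hc => (X.LE_le_CC ((hs c).1 hc)).1)
      (fun c hc d hd => X.LE_comm ((hs c).1 hc) ((hs d).1 hd)) (fun c hc => ((hs c).1 hc).2.2) U
      (fun c hc => hU c ((hs c).1 hc)) hne
    exact ⟨v, hv, hv0, fun c hc => hfix c ((hs c).2 hc)⟩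
  have hone : ∀ {U : AddSubgroup (VV z)}, (∃ v ∈ U, v ≠ 0) → 2 ≤ Nat.card U := fun {U} ⟨v, hv, hv0⟩ => by
    rw [← Nat.succ_le_iff.symm]
    exact Finite.one_lt_card_iff_nontrivial.2 ⟨⟨⟨v, hv⟩, 0, fun e => hv0 (congrArg Subtype.val e)⟩⟩
  obtain ⟨c, hc, hct⟩ := X.t_lift
  have ht1 : X.S.t ≠ 1 := fun e => by have := X.S.ht; rw [e, orderOf_one] at this; omega
  have hle : Nat.card X.WV ≤ 2 ^ 8 := by
    rw [← X.card_ker_lift (X.LE_le_CC hc) hc.2.2 (hct ▸ ht1)]
    exact AddSubgroup.card_le_of_le fun v hv => (mem_ker_nil hJ).2 (hv c hc)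
  have hne : ∃ v ∈ (⊤ : AddSubgroup (VV z)), v ≠ 0 := by
    by_contra hcon
    push Not at hcon
    have h1 : Nat.card (VV z) = 1 := Nat.card_eq_one_iff_unique.2
      ⟨⟨fun a b => (hcon a trivial).trans (hcon b trivial).symm⟩, ⟨0⟩⟩
    rw [card_VV hJ] at h1
    norm_num at h1
  obtain ⟨v, -, hv0, hv⟩ := hcommon ⊤ (fun _ _ _ _ => trivial) hne
  have h2 := hone ⟨v, hv, hv0⟩
  obtain ⟨e, he⟩ := X.card_cube hT hT27 hab X.WV hWT
  have he1 : e = 1 := by
    rcases e with _ | _ | e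
    · omega
    · rfl
    · exfalso
      have : 64 ^ 2 ≤ 64 ^ (e + 1 + 1) := Nat.pow_le_pow_right (by norm_num) (by omega)
      rw [he] at hle
      have := this.trans hle
      norm_num at this
  have hW : Nat.card X.WV = 2 ^ 6 := by rw [he, he1]; norm_num
  refine ⟨hW, ?_⟩
  set R := perp hJ X.WV with hR
  have hRinv : ∀ d ∈ HH z, (∀ u ∈ X.WV, act z d⁻¹ u ∈ X.WV) → ∀ v ∈ R, act z d v ∈ R := fun d hd h v hv u hu => by
    rw [BB_act_inv hJ hd]
    exact hv _ (h u hu)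
  have hRc : Nat.card R = 2 ^ 6 := by
    have := card_mul_card_perp hJ X.WV
    rw [hW, ← hR] at this
    norm_num at this ⊢
    omega
  obtain ⟨u, hu, hu0, huW⟩ := hcommon R (fun d hd => hRinv d (X.LE_le_CC hd).1 fun w hw => by
      rw [show d⁻¹ = d from inv_eq_of_mul_eq_one_right hd.2.2, hw d hd]; exact hw) (by
    by_contra hcon
    push Not at hcon
    have : Nat.card R = 1 := Nat.card_eq_one_iff_unique.2
      ⟨⟨fun a b => Subtype.ext ((hcon a a.2).trans (hcon b b.2).symm)⟩, ⟨0⟩⟩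
    omega)
  obtain ⟨f, hf⟩ := X.card_cube hT hT27 hab (X.WV ⊓ R) fun d hd v hv =>
    ⟨hWT d hd v hv.1, hRinv d (hT hd).1 (fun w hw => hWT d⁻¹ (inv_mem hd) w hw) v hv.2⟩
  have h3 := hone (U := X.WV ⊓ R) ⟨u, ⟨huW, hu⟩, hu0⟩
  have hf1 : 64 ≤ Nat.card (X.WV ⊓ R : AddSubgroup (VV z)) := by
    rcases f with _ | f
    · omega
    · rw [hf]; exact Nat.le_self_pow (by omega) 64
  have e1 : X.WV ⊓ R = X.WV := AddSubgroup.eq_of_le_of_card_ge inf_le_left (by omega)
  have e2 : X.WV ⊓ R = R := AddSubgroup.eq_of_le_of_card_ge inf_le_right (by omega)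
  exact e2.symm.trans e1

theorem BB_WV {u v : VV z} (hu : u ∈ X.WV) (hv : v ∈ X.WV) : BB z u v = 0 := by
  rw [← X.card_WV.2] at hu
  exact hu v hv

theorem act_P_WV {p : G} (hp : p ∈ P) {v : VV z} (hv : v ∈ X.WV) : act z p v ∈ X.WV := fun c hc => by
  rw [act_inner X.L.J (CC_le_H0 z P (X.LE_le_CC hc)) hp, hv c hc]

theorem QQ_WV {v : VV z} (hv : v ∈ X.WV) : QQ z v = 0 := by
  obtain ⟨p, hp, hp1, -, -⟩ := X.L.J.exists_gen
  rw [← BB_act_self X.L.J hp hp1]
  exact X.BB_WV hv (X.act_P_WV hp hv)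

/-- `t` and a second element of `E` fix only the common fixed space. -/
theorem fix_pair {x : ↥Cfsg.Spor.M22} (hx : x ∈ X.S.E) (hx1 : x ≠ 1) (hxt : x ≠ X.S.t) {ct cx : G}
    (hct : ct ∈ CC z P) (hcx : cx ∈ CC z P) (ht2 : ct * ct = 1) (hx2 : cx * cx = 1)
    (et : X.π ⟨ct, hct⟩ = X.S.t) (ex : X.π ⟨cx, hcx⟩ = x) {v : VV z} (hvt : act z ct v = v)
    (hvx : act z cx v = v) : v ∈ X.WV := by
  classical
  have hJ := X.L.J
  have ht1 : X.S.t ≠ 1 := fun e => by have := X.S.ht; rw [e, orderOf_one] at this; omega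
  have htE : X.S.t ∈ X.S.E := X.S.D_le X.hcard (X.S.t_mem_D X.hcard)
  obtain ⟨p, hp, hp1, -, -⟩ := hJ.exists_gen
  set U := (nil z ct).ker ⊓ (nil z cx).ker with hU
  have hkt : Nat.card (nil z ct).ker = 2 ^ 8 := X.card_ker_lift hct ht2 (et ▸ ht1)
  have hkx : Nat.card (nil z cx).ker = 2 ^ 8 := X.card_ker_lift hcx hx2 (ex ▸ hx1)
  have hWU : X.WV ≤ U := fun w hw => by
    refine ⟨(mem_ker_nil hJ).2 (hw ct ⟨hct, ?_, ht2⟩), (mem_ker_nil hJ).2 (hw cx ⟨hcx, ?_, hx2⟩)⟩
    · rw [et]; exact htE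
    · rw [ex]; exact hx
  obtain ⟨k, -, hk⟩ := card_invariant hJ hp hp1 (W := U) fun w hw => by
    refine ⟨(mem_ker_nil hJ).2 ?_, (mem_ker_nil hJ).2 ?_⟩
    · rw [act_inner hJ (CC_le_H0 z P hct) hp, (mem_ker_nil hJ).1 hw.1]
    · rw [act_inner hJ (CC_le_H0 z P hcx) hp, (mem_ker_nil hJ).1 hw.2]
  have hlo : 2 ^ 6 ≤ Nat.card U := X.card_WV.1 ▸ AddSubgroup.card_le_of_le hWU
  have hhi : Nat.card U ≤ 2 ^ 8 := hkt ▸ AddSubgroup.card_le_of_le inf_le_left
  rcases (show k = 3 ∨ k = 4 by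
    rw [hk] at hlo hhi
    have h1 : 3 ≤ k := by
      by_contra h
      have : 4 ^ k ≤ 4 ^ 2 := Nat.pow_le_pow_right (by norm_num) (by omega)
      omega
    have h2 : k ≤ 4 := by
      by_contra h
      have : 4 ^ 5 ≤ 4 ^ k := Nat.pow_le_pow_right (by norm_num) (by omega)
      omega
    omega) with rfl | rfl
  · have e : X.WV = U := AddSubgroup.eq_of_le_of_card_ge hWU (by rw [hk, X.card_WV.1]; norm_num)
    rw [e]
    exact ⟨(mem_ker_nil hJ).2 hvt, (mem_ker_nil hJ).2 hvx⟩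
  exfalso
  have hUt : U = (nil z ct).ker := AddSubgroup.eq_of_le_of_card_ge inf_le_left (by rw [hk, hkt]; norm_num)
  set Kt := (nil z ct).ker with hKt
  let Y : Subgroup ↥Cfsg.Spor.M22 :=
    { carrier := {m | m ∈ X.S.E ∧ ∀ c (hc : c ∈ X.LE), X.π ⟨c, X.LE_le_CC hc⟩ = m → ∀ w ∈ Kt, act z c w = w}
      one_mem' := ⟨one_mem _, fun c hc e w _ => by
        rw [X.lift_act_eq (X.LE_le_CC hc) (one_mem _) hc.2.2 (one_mul 1) (e.trans (map_one X.π).symm), act_one]⟩
      mul_mem' := fun {a b} ha hb => ⟨mul_mem ha.1 hb.1, fun c hc e w hw => by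
        obtain ⟨ca, hca, ea⟩ := X.exists_lift ha.1
        obtain ⟨cb, hcb, eb⟩ := X.exists_lift hb.1
        rw [X.lift_act_eq (X.LE_le_CC hc) (X.LE_le_CC (mul_mem hca hcb)) hc.2.2 (mul_mem hca hcb).2.2
          (e.trans ((congrArg₂ (· * ·) ea.symm eb.symm).trans
            (map_mul X.π ⟨ca, X.LE_le_CC hca⟩ ⟨cb, X.LE_le_CC hcb⟩).symm)),
          act_mul (X.LE_le_CC hca).1 (X.LE_le_CC hcb).1, hb.2 cb hcb eb w hw, ha.2 ca hca ea w hw]⟩
      inv_mem' := fun {a} ha => by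
        rw [inv_eq_of_mul_eq_one_right (X.S.sq X.hcard ha.1)]; exact ha }
  have htY : X.S.t ∈ Y := ⟨htE, fun c hc e w hw => by
    rw [X.lift_act_eq (X.LE_le_CC hc) hct hc.2.2 ht2 (e.trans et.symm)]
    exact (mem_ker_nil hJ).1 hw⟩
  have hxY : x ∈ Y := ⟨hx, fun c hc e w hw => by
    rw [X.lift_act_eq (X.LE_le_CC hc) hcx hc.2.2 hx2 (e.trans ex.symm)]
    rw [← hUt] at hw
    exact (mem_ker_nil hJ).1 hw.2⟩
  -- conjugating lifts
  have hconjlift : ∀ d (hd : d ∈ CC z P) {a : ↥Cfsg.Spor.M22} {c : G} (hc : c ∈ CC z P), X.π ⟨c, hc⟩ = a →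
      X.π ⟨d * c * d⁻¹, mul_mem (mul_mem hd hc) (inv_mem hd)⟩ = X.π ⟨d, hd⟩ * a * (X.π ⟨d, hd⟩)⁻¹ :=
    fun d hd a c hc e => by rw [← e, ← map_inv, ← map_mul, ← map_mul]; rfl
  have hcsq : ∀ d c : G, c * c = 1 → d * c * d⁻¹ * (d * c * d⁻¹) = 1 := fun d c h => by
    calc d * c * d⁻¹ * (d * c * d⁻¹) = d * (c * c) * d⁻¹ := by group
      _ = 1 := by rw [h]; group
  have hinv : ∀ g, Commute g X.S.t → ∀ y ∈ Y, g * y * g⁻¹ ∈ Y := by
    intro g hg y hy
    have hgn : g ∈ normalizer (X.S.E : Set ↥Cfsg.Spor.M22) :=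
      X.S.C_le X.hcard (mem_centralizer_singleton_iff.2 hg)
    obtain ⟨⟨d, hd⟩, hdg⟩ := X.surj g
    refine ⟨M22Order.conj_mem_of_mem_normalizer hgn hy.1, fun c hc e w hw => ?_⟩
    obtain ⟨cy, hcy, ey⟩ := X.exists_lift hy.1
    rw [X.lift_act_eq (X.LE_le_CC hc) (mul_mem (mul_mem hd (X.LE_le_CC hcy)) (inv_mem hd)) hc.2.2
      (hcsq d cy hcy.2.2) (by rw [e, hconjlift d hd (X.LE_le_CC hcy) ey, hdg])]
    have hw' : act z d⁻¹ w ∈ Kt := by
      refine (mem_ker_nil hJ).2 ?_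
      have h1 := act_conj (inv_mem hd.1) hct.1 w
      rw [inv_inv] at h1
      have h2 : act z (d⁻¹ * ct * d) (act z d⁻¹ w) = act z ct (act z d⁻¹ w) :=
        X.lift_act_eq (mul_mem (mul_mem (inv_mem hd) hct) hd) hct
          (by have := hcsq d⁻¹ ct ht2; rwa [inv_inv] at this) ht2
          (by
            have h3 := hconjlift d⁻¹ (inv_mem hd) hct et
            simp only [inv_inv] at h3
            rw [h3, show X.π ⟨d⁻¹, inv_mem hd⟩ = g⁻¹ from (map_inv X.π ⟨d, hd⟩).trans (by rw [hdg]), et, inv_inv,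
              (hg.symm.inv_right).symm.eq, inv_mul_cancel_right]) _
      rw [← h2, h1, (mem_ker_nil hJ).1 hw]
    have h4 := act_conj hd.1 (X.LE_le_CC hcy).1 (act z d⁻¹ w)
    rw [act_act_inv hd.1, hy.2 cy hcy ey _ hw', act_act_inv hd.1] at h4
    exact h4
  have h8 := eight_le_invariant X.hcard X.S (fun y (hy : _ ∧ _) => hy.1) htY hinv ⟨x, hxY, hx1, hxt⟩
  -- all of the elementary subgroup fixes `Kt`
  have hall : Kt ≤ X.WV := by
    intro w hw c hc
    by_cases he1 : X.π ⟨c, X.LE_le_CC hc⟩ = 1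
    · rw [X.lift_act_eq (X.LE_le_CC hc) (one_mem _) hc.2.2 (one_mul 1) (he1.trans (map_one X.π).symm), act_one]
    obtain ⟨k', hk'n, hk'⟩ := X.S.trans X.hcard hc.2.1 he1
    obtain ⟨⟨d, hd⟩, hdk⟩ := X.surj k'
    -- a common non-trivial element
    obtain ⟨y, hy, hy', hy1⟩ : ∃ y, y ∈ Y ∧ k'⁻¹ * y * k' ∈ Y ∧ y ≠ 1 := by
      by_contra hcon
      push Not at hcon
      let f : Y × Y → X.S.E := fun q => ⟨(q.1 : ↥Cfsg.Spor.M22) * (k' * q.2 * k'⁻¹),
        mul_mem q.1.2.1 (M22Order.conj_mem_of_mem_normalizer hk'n q.2.2.1)⟩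
      have hinj : Function.Injective f := by
        rintro ⟨a, b⟩ ⟨a', b'⟩ e
        have e' : (a : ↥Cfsg.Spor.M22) * (k' * b * k'⁻¹) = a' * (k' * b' * k'⁻¹) := congrArg Subtype.val e
        have e2 : (a' : ↥Cfsg.Spor.M22)⁻¹ * a = k' * ((b' : ↥Cfsg.Spor.M22) * (b : ↥Cfsg.Spor.M22)⁻¹) * k'⁻¹ := by
          calc (a' : ↥Cfsg.Spor.M22)⁻¹ * a
              = (a' : ↥Cfsg.Spor.M22)⁻¹ * ((a : ↥Cfsg.Spor.M22) * (k' * b * k'⁻¹)) * (k' * b * k'⁻¹)⁻¹ := by group
            _ = _ := by rw [e']; group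
        have h1 := hcon _ (mul_mem (inv_mem a'.2) a.2) (by
          rw [e2, show k'⁻¹ * (k' * ((b' : ↥Cfsg.Spor.M22) * (b : ↥Cfsg.Spor.M22)⁻¹) * k'⁻¹) * k' =
            (b' : ↥Cfsg.Spor.M22) * (b : ↥Cfsg.Spor.M22)⁻¹ by group]
          exact mul_mem b'.2 (inv_mem b.2))
        have haa : a = a' := Subtype.ext (inv_mul_eq_one.1 h1).symm
        subst haa
        exact Prod.ext rfl (Subtype.ext (mul_left_cancel (mul_right_cancel (mul_left_cancel e'))))
      have h := Nat.card_le_card_of_injective f hinj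
      rw [Nat.card_prod, X.S.card_E X.hcard] at h
      nlinarith
    obtain ⟨cy, hcy, ey⟩ := X.exists_lift hy.1
    obtain ⟨c0, hc0, e0⟩ := X.exists_lift hy'.1
    -- kernels of equal size
    have heq : ∀ {b : G} (hb : b ∈ CC z P), b * b = 1 → X.π ⟨b, hb⟩ ≠ 1 → (∀ u ∈ Kt, act z b u = u) →
        ∀ u, act z b u = u → u ∈ Kt := fun {b} hb hb2 hbne h u hu => by
      have e : Kt = (nil z b).ker := AddSubgroup.eq_of_le_of_card_ge (fun u hu => (mem_ker_nil hJ).2 (h u hu))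
        (by rw [hkt, X.card_ker_lift hb hb2 hbne])
      rw [e]; exact (mem_ker_nil hJ).2 hu
    have hdc : act z (d * c0 * d⁻¹) w = w := by
      rw [X.lift_act_eq (mul_mem (mul_mem hd (X.LE_le_CC hc0)) (inv_mem hd)) (X.LE_le_CC hcy)
        (hcsq d c0 hc0.2.2) hcy.2.2 (by
          rw [hconjlift d hd (X.LE_le_CC hc0) e0, hdk, ey,
            show k' * (k'⁻¹ * y * k') * k'⁻¹ = y by group]) w]
      exact hy.2 cy hcy ey w hw
    have hw0 : act z c0 (act z d⁻¹ w) = act z d⁻¹ w := by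
      refine act_injective hd.1 ?_
      rw [← act_conj hd.1 (X.LE_le_CC hc0).1, act_act_inv hd.1, hdc]
    have hK : act z d⁻¹ w ∈ Kt := heq (X.LE_le_CC hc0) hc0.2.2
      (fun e => hy1 (by
        rw [e0] at e
        calc y = k' * (k'⁻¹ * y * k') * k'⁻¹ := by group
          _ = 1 := by rw [e]; group))
      (fun u hu => hy'.2 c0 hc0 e0 u hu) _ hw0
    rw [X.lift_act_eq (X.LE_le_CC hc) (mul_mem (mul_mem hd hct) (inv_mem hd)) hc.2.2 (hcsq d ct ht2)
      (by rw [hconjlift d hd hct et, hdk, hk']) w]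
    have h5 := act_conj hd.1 hct.1 (act z d⁻¹ w)
    rw [act_act_inv hd.1, (mem_ker_nil hJ).1 hK, act_act_inv hd.1] at h5
    exact h5
  have := AddSubgroup.card_le_of_le hall
  rw [hkt, X.card_WV.1] at this
  norm_num at this

end Chart

end Cfsg.Agent.J4Eleven
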