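import Cfsg.Agent.Lib.J4Eleven.Fix
import Cfsg.Agent.Lib.J4Local.M22Rank
import Cfsg.Agent.Lib.J4Local.Conj
import Cfsg.Agent.Lib.J4Local.Pair

/-!
# Janko four type: the elementary abelian subgroups of order `2 ^ 11`

All of them in the centraliser of `z` are conjugate to the preimage of the fixed space of the lifts of the
elementary subgroup of order 16, joined with those lifts, and a 2-subgroup contains at most one.
-/

set_option autoImplicit false
set_option linter.style.haveILetI false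
set_option linter.unusedSectionVars false

namespace Cfsg.Agent.J4Eleven

open Subgroup
open Cfsg.Agent.J4Local
open Cfsg.Agent.M22Order (Setup)

universe u

variable {G : Type u} [Group G] [Finite G] {z : G} {P : Subgroup G}

/-- An elementary abelian subgroup of order `2 ^ 11` in the centraliser of `z`. -/
structure Eleven (z : G) (A : Subgroup G) : Prop where
  le : A ≤ HH z
  sq : ∀ a ∈ A, a * a = 1
  comm : ∀ a ∈ A, ∀ b ∈ A, a * b = b * a
  card : Nat.card A = 2 ^ 11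

theorem Eleven.conj {A : Subgroup G} (h : Eleven z A) {d : G} (hd : d ∈ HH z) : Eleven z (cjS d A) where
  le := by
    rintro _ ⟨a, ha, rfl⟩
    exact mul_mem (mul_mem hd (h.le ha)) (inv_mem hd)
  sq := by
    rintro _ ⟨a, ha, rfl⟩
    rw [← map_mul, h.sq a ha, map_one]
  comm := by
    rintro _ ⟨a, ha, rfl⟩ _ ⟨b, hb, rfl⟩
    rw [← map_mul, h.comm a ha b hb, map_mul]
  card := by rw [card_cjS, h.card]

namespace Chart

variable (X : Chart z P)

/-- The distinguished subgroup. -/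
def std : Subgroup G where
  carrier := {a | ∃ x ∈ preV X.L.J X.WV, ∃ c ∈ X.LE, a = x * c}
  one_mem' := ⟨1, one_mem _, 1, one_mem _, (one_mul 1).symm⟩
  mul_mem' := by
    rintro _ _ ⟨x, hx, c, hc, rfl⟩ ⟨y, hy, d, hd, rfl⟩
    have h1 : c * y = y * c := fixed_of_CC X.L.J (X.LE_le_CC hc) hy.1 (hy.2 c hc)
    refine ⟨x * y, mul_mem hx hy, c * d, mul_mem hc hd, ?_⟩
    calc x * c * (y * d) = x * (c * y) * d := by group
      _ = x * y * (c * d) := by rw [h1]; group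
  inv_mem' := by
    rintro _ ⟨x, hx, c, hc, rfl⟩
    have h1 : c⁻¹ * x⁻¹ = x⁻¹ * c⁻¹ :=
      fixed_of_CC X.L.J (X.LE_le_CC (inv_mem hc)) (inv_mem hx.1) ((inv_mem hx : x⁻¹ ∈ preV X.L.J X.WV).2 _
        (inv_mem hc))
    exact ⟨x⁻¹, inv_mem hx, c⁻¹, inv_mem hc, by rw [mul_inv_rev, h1]⟩

theorem preV_le_std : preV X.L.J X.WV ≤ X.std := fun x hx => ⟨x, hx, 1, one_mem _, (mul_one x).symm⟩

theorem LE_le_std : X.LE ≤ X.std := fun c hc => ⟨1, one_mem _, c, hc, (one_mul c).symm⟩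

theorem preV_comm {x y : G} (hx : x ∈ preV X.L.J X.WV) (hy : y ∈ preV X.L.J X.WV) : x * y = y * x := by
  rw [← cm_eq_zero, ← BB_vk X.L.J hx.1 hy.1]
  exact X.BB_WV hx.2 hy.2

theorem preV_sq {x : G} (hx : x ∈ preV X.L.J X.WV) : x * x = 1 :=
  (QQ_vk_eq_zero X.L.J hx.1).1 (X.QQ_WV hx.2)

theorem LE_preV_comm {c x : G} (hc : c ∈ X.LE) (hx : x ∈ preV X.L.J X.WV) : c * x = x * c :=
  fixed_of_CC X.L.J (X.LE_le_CC hc) hx.1 (hx.2 c hc)

include X in
theorem z_mem_LE : z ∈ X.LE :=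
  ⟨X.z_mem_CC, by rw [(X.mem_ker_iff ⟨z, X.z_mem_CC⟩).2 X.z_mem_six]; exact one_mem _, X.zz⟩

theorem card_LE : Nat.card X.LE = 32 := by
  let g : ↥X.LE →* ↥Cfsg.Spor.M22 := X.π.comp (inclusion X.LE_le_CC)
  have hrange : g.range = X.S.E := by
    refine le_antisymm ?_ ?_
    · rintro _ ⟨⟨c, hc, hπ, -⟩, rfl⟩
      exact hπ
    · intro m hm
      obtain ⟨c, hc, e⟩ := X.exists_lift hm
      exact ⟨⟨c, hc⟩, e⟩
  have hker : g.ker = (zpowers z).subgroupOf X.LE := by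
    ext ⟨c, hc⟩
    rw [MonoidHom.mem_ker, mem_subgroupOf]
    show X.π ⟨c, X.LE_le_CC hc⟩ = 1 ↔ c ∈ zpowers z
    rw [X.mem_ker_iff]
    exact ⟨fun h => X.mem_zpowers_of_six h (by rw [hc.2.2]; exact one_mem _), fun h => mem_sup_right h⟩
  have h1 := g.ker.card_mul_index
  rw [Subgroup.index_ker, hrange, X.S.card_E X.hcard, hker,
    Nat.card_congr (subgroupOfEquivOfLe (zpowers_le.2 X.z_mem_LE)).toEquiv, Nat.card_zpowers,
    X.L.J.two] at h1
  exact h1.symm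

theorem std_eleven : Eleven z X.std := by
  have hJ := X.L.J
  refine ⟨?_, ?_, ?_, ?_⟩
  · rintro _ ⟨x, hx, c, hc, rfl⟩
    exact mul_mem (EE_le_HH z hx.1) (X.LE_le_CC hc).1
  · rintro _ ⟨x, hx, c, hc, rfl⟩
    calc x * c * (x * c) = x * (c * x) * c := by group
      _ = (x * x) * (c * c) := by rw [X.LE_preV_comm hc hx]; group
      _ = 1 := by rw [X.preV_sq hx, hc.2.2, one_mul]
  · rintro _ ⟨x, hx, c, hc, rfl⟩ _ ⟨y, hy, d, hd, rfl⟩
    calc x * c * (y * d) = x * (c * y) * d := by group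
      _ = (x * y) * (c * d) := by rw [X.LE_preV_comm hc hy]; group
      _ = (y * x) * (d * c) := by rw [X.preV_comm hx hy, X.LE_comm hc hd]
      _ = y * (x * d) * c := by group
      _ = y * (d * x) * c := by rw [X.LE_preV_comm hd hx]
      _ = _ := by group
  · let f : ↥(preV hJ X.WV) × ↥X.LE →* ↥X.std :=
      { toFun := fun q => ⟨(q.1 : G) * q.2, ⟨q.1, q.1.2, q.2, q.2.2, rfl⟩⟩
        map_one' := Subtype.ext (mul_one 1)
        map_mul' := fun a b => Subtype.ext (by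
          show ((a.1 : G) * b.1) * ((a.2 : G) * b.2) = (a.1 : G) * a.2 * ((b.1 : G) * b.2)
          calc (a.1 : G) * b.1 * ((a.2 : G) * b.2) = (a.1 : G) * ((b.1 : G) * a.2) * b.2 := by group
            _ = _ := by rw [← X.LE_preV_comm a.2.2 b.1.2]; group) }
    have hsurj : Function.Surjective f := by
      rintro ⟨_, x, hx, c, hc, rfl⟩
      exact ⟨(⟨x, hx⟩, ⟨c, hc⟩), rfl⟩
    have hzP : z ∈ preV hJ X.WV := ⟨X.z_mem_EE, by rw [vk_z hJ]; exact zero_mem _⟩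
    have hz : zpowers z ≤ preV hJ X.WV := zpowers_le.2 hzP
    have hzL : zpowers z ≤ X.LE := zpowers_le.2 X.z_mem_LE
    have hker : Nat.card f.ker = 2 := by
      let i : ↥(zpowers z) → ↥f.ker := fun t => ⟨(⟨t, hz t.2⟩, ⟨t, hzL t.2⟩), by
        rw [MonoidHom.mem_ker]; exact Subtype.ext (X.sq_of_zpowers t.2)⟩
      have hb : Function.Bijective i := by
        refine ⟨fun a b e => Subtype.ext (congrArg (fun q : ↥f.ker => ((q.1.1 : ↥(preV hJ X.WV)) : G)) e), ?_⟩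
        rintro ⟨⟨⟨x, hx⟩, ⟨c, hc⟩⟩, hk⟩
        have hxc : x * c = 1 := congrArg Subtype.val (MonoidHom.mem_ker.1 hk)
        have hcx : c = x := by
          rw [← inv_eq_of_mul_eq_one_right hxc, inv_eq_of_mul_eq_one_right (X.preV_sq hx)]
        subst hcx
        exact ⟨⟨c, hJ.CC_inf_EE (X.LE_le_CC hc) hx.1⟩, rfl⟩
      rw [← Nat.card_congr (Equiv.ofBijective i hb), Nat.card_zpowers, hJ.two]
    have h1 := f.ker.card_mul_index
    rw [Subgroup.index_ker, MonoidHom.range_eq_top.2 hsurj, Subgroup.card_top, hker, Nat.card_prod,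
      card_preV, X.card_WV.1, X.card_LE] at h1
    omega

theorem exists_psi : ∃ ψ : ↥(H0 z P) →* ↥Cfsg.Spor.M22, ∀ (c : G) (hc : c ∈ CC z P) (e : G),
    e ∈ EE z → ∀ v : ↥(H0 z P), (v : G) = c * e → ψ v = X.π ⟨c, hc⟩ := by
  classical
  have hdec : ∀ v : ↥(H0 z P), ∃ c : ↥(CC z P), ∃ e ∈ EE z, (v : G) = c * e := fun v => by
    obtain ⟨c, hc, e, he, h⟩ := exists_dec v.2
    exact ⟨⟨c, hc⟩, e, he, h⟩
  choose C E hE hv using hdec
  have hwd : ∀ (c : G) (hc : c ∈ CC z P) (e : G), e ∈ EE z → ∀ v : ↥(H0 z P), (v : G) = c * e →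
      X.π (C v) = X.π ⟨c, hc⟩ := fun c hc e he v h => by
    have h' := (hv v).symm.trans h
    have hk : X.π ((C v)⁻¹ * ⟨c, hc⟩) = 1 := by
      refine (X.mem_ker_iff _).2 (mem_sup_right (X.L.J.CC_inf_EE (mul_mem (inv_mem (C v).2) hc) ?_))
      show ((C v : G))⁻¹ * c ∈ EE z
      rw [show ((C v : G))⁻¹ * c = E v * e⁻¹ by
        calc ((C v : G))⁻¹ * c = ((C v : G))⁻¹ * (c * e) * e⁻¹ := by group
          _ = _ := by rw [← h']; group]
      exact mul_mem (hE v) (inv_mem he)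
    rw [map_mul, map_inv, inv_mul_eq_one] at hk
    exact hk
  refine ⟨MonoidHom.mk' (fun v => X.π (C v)) (fun a b => ?_), hwd⟩
  rw [← map_mul]
  refine hwd _ ((C a) * (C b)).2 ((C b : G)⁻¹ * E a * C b * E b)
    (mul_mem (conj_mem_EE' (C b).2.1 (hE a)) (hE b)) (a * b) ?_
  rw [Subgroup.coe_mul, hv a, hv b, Subgroup.coe_mul]
  group

/-- The projection of the inner part to M22. -/
noncomputable def psi : ↥(H0 z P) →* ↥Cfsg.Spor.M22 := X.exists_psi.choose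

theorem psi_eq {c e : G} (hc : c ∈ CC z P) (he : e ∈ EE z) (h : c * e ∈ H0 z P) :
    X.psi ⟨c * e, h⟩ = X.π ⟨c, hc⟩ := X.exists_psi.choose_spec c hc e he _ rfl

theorem psi_CC {c : G} (hc : c ∈ CC z P) (h : c ∈ H0 z P) : X.psi ⟨c, h⟩ = X.π ⟨c, hc⟩ :=
  X.exists_psi.choose_spec c hc 1 (one_mem _) _ (mul_one c).symm

/-- An involution of the inner part is an involution of `C` times an element of `E`. -/
theorem dec_sq {a : G} (ha : a ∈ H0 z P) (h2 : a * a = 1) : ∃ c, ∃ hc : c ∈ CC z P, ∃ e ∈ EE z,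
    a = c * e ∧ c * c = 1 ∧ X.psi ⟨a, ha⟩ = X.π ⟨c, hc⟩ := by
  obtain ⟨c, hc, e, he, rfl⟩ := exists_dec ha
  refine ⟨c, hc, e, he, rfl, X.sq_one hc ?_, X.psi_eq hc he ha⟩
  refine X.L.J.CC_inf_EE (mul_mem hc hc) ?_
  rw [show c * c = (c * e * (c * e)) * (c⁻¹ * e * c * e)⁻¹ by
    rw [h2, one_mul]
    have e1 : c * c * (c⁻¹ * e * c * e) = 1 := by
      rw [← h2]; group
    exact eq_inv_of_mul_eq_one_left e1]
  rw [h2, one_mul]
  exact inv_mem (mul_mem (conj_mem_EE' hc.1 he) he)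

theorem mem_EE_of_psi_one {a : G} (ha : a ∈ H0 z P) (h2 : a * a = 1) (h : X.psi ⟨a, ha⟩ = 1) : a ∈ EE z := by
  obtain ⟨c, hc, e, he, rfl, hc2, hψ⟩ := X.dec_sq ha h2
  rw [hψ, X.mem_ker_iff] at h
  exact mul_mem (zpowers_le.2 X.z_mem_EE (X.mem_zpowers_of_six h (by rw [hc2]; exact one_mem _))) he

section Elementary

variable {A : Subgroup G} (hA : Eleven z A)

include hA

include X in
theorem isotropic {v w : VV z} (hv : v ∈ imgV z (A ⊓ EE z)) (hw : w ∈ imgV z (A ⊓ EE z)) : BB z v w = 0 := by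
  obtain ⟨x, hx, hxE, rfl⟩ := hv
  obtain ⟨y, hy, hyE, rfl⟩ := hw
  rw [BB_vk X.L.J hxE hyE, cm_eq_zero]
  exact hA.comm x hx.1 y hy.1

include X in
theorem fixed_img {a : G} (ha : a ∈ A) {w : VV z} (hw : w ∈ imgV z (A ⊓ EE z)) : act z a w = w := by
  obtain ⟨x, hx, hxE, rfl⟩ := hw
  rw [act_vk (hA.le ha) hxE, hA.comm a ha x hx.1, mul_inv_cancel_right]

include X in
theorem card_inf_le : Nat.card ↥(A ⊓ EE z) ≤ 128 := by
  have h1 := card_le_two_mul X.L.J (S := A ⊓ EE z) inf_le_right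
  have h2 := card_isotropic X.L.J (W := imgV z (A ⊓ EE z)) fun v hv w hw => X.isotropic hA hv hw
  omega

include X in
theorem le_H0 : A ≤ H0 z P := by
  classical
  intro v hvA
  by_contra hv0
  have hJ := X.L.J
  obtain ⟨p, hp, hp1, -, -⟩ := hJ.exists_gen
  have hvH := hA.le hvA
  have hv2 : v * v ∈ EE z := by rw [hA.sq v hvA]; exact one_mem _
  have hidx : Nat.card A ≤ Nat.card ↥(A ⊓ H0 z P) * 2 := by
    refine (card_le_stab_mul A (A ⊓ H0 z P) (fun a => decide ((a : G) ∈ H0 z P)) fun a b e => ?_).trans ?_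
    · refine Subgroup.mem_inf.2 ⟨mul_mem (inv_mem a.2) b.2, ?_⟩
      rw [inv_eq_of_mul_eq_one_right (hA.sq _ a.2)]
      by_cases ha : (a : G) ∈ H0 z P
      · exact mul_mem ha (by simpa [ha] using e)
      · exact outer_mul X.L (hA.le a.2) (hA.le b.2) ha (by simpa [ha] using e)
    · rw [show Nat.card Bool = 2 by simp]
  rw [hA.card] at hidx
  have hsplit : Nat.card ↥(A ⊓ H0 z P) ≤ Nat.card ↥(A ⊓ EE z) * 16 := by
    set B := ((A ⊓ H0 z P).subgroupOf (H0 z P)).map X.psi with hB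
    have hB16 : Nat.card B ≤ 16 := rank_le X.hcard B (by
      rintro _ ⟨⟨a, ha⟩, haA, rfl⟩
      rw [← map_mul, show (⟨a, ha⟩ : ↥(H0 z P)) * ⟨a, ha⟩ = 1 from Subtype.ext (hA.sq a haA.1), map_one])
    refine (card_le_stab_mul (A ⊓ H0 z P) (A ⊓ EE z)
      (fun a => (⟨X.psi ⟨a, a.2.2⟩, ⟨a, a.2.2⟩, a.2, rfl⟩ : B)) fun a b e => ?_).trans
      (Nat.mul_le_mul_left _ hB16)
    have hab : (a : G)⁻¹ * b ∈ A := mul_mem (inv_mem a.2.1) b.2.1
    refine ⟨hab, X.mem_EE_of_psi_one (mul_mem (inv_mem a.2.2) b.2.2) (hA.sq _ hab) ?_⟩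
    rw [show (⟨(a : G)⁻¹ * b, mul_mem (inv_mem a.2.2) b.2.2⟩ : ↥(H0 z P)) = (⟨a, a.2.2⟩)⁻¹ * ⟨b, b.2.2⟩ from rfl,
      map_mul, map_inv, inv_mul_eq_one]
    exact congrArg Subtype.val e
  set I := imgV z (A ⊓ EE z) with hI
  by_cases hex : ∃ a ∈ A, a ∈ H0 z P ∧ a ∉ EE z
  · obtain ⟨a, haA, ha0, haE⟩ := hex
    have hinj : Nat.card (I × I) ≤ Nat.card (nil z a).ker := by
      refine Nat.card_le_card_of_injective (fun q => ⟨(q.1 : VV z) + act z p q.2, (mem_ker_nil hJ).2 ?_⟩) ?_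
      · rw [map_add, X.fixed_img hA haA q.1.2, act_inner hJ ha0 hp, X.fixed_img hA haA q.2.2]
      · rintro ⟨i, j⟩ ⟨i', j'⟩ e
        have e' : (i : VV z) + act z p j = i' + act z p j' := congrArg Subtype.val e
        set di := (i : VV z) + i' with hdi
        set dj := (j : VV z) + j' with hdj
        have hd : di + act z p dj = 0 := by
          rw [hdi, hdj, map_add, show (i : VV z) + i' + (act z p j + act z p j') =
            (i + act z p j) + (i' + act z p j') by abel, e', VV.two hJ]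
        have hd2 := congrArg (act z v) hd
        rw [map_add, map_zero, X.fixed_img hA hvA (add_mem i.2 i'.2), act_outer X.L hvH hv0 hp,
          X.fixed_img hA hvA (add_mem j.2 j'.2)] at hd2
        have e1 : act z p (act z p dj) = act z p dj := add_left_cancel (hd2.trans hd.symm)
        have e2 : dj = 0 := act_fpf hJ hp hp1 (act_injective (hJ.P_le_HH hp) e1)
        rw [e2, map_zero, add_zero] at hd
        exact Prod.ext (Subtype.ext (VV.eq_of_add hJ hd)) (Subtype.ext (VV.eq_of_add hJ e2))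
    rw [Nat.card_prod, card_ker_inner X.L ha0 haE (by rw [hA.sq a haA]; exact one_mem _)] at hinj
    have h16 : Nat.card I ≤ 16 := by
      by_contra h
      have : 17 * 17 ≤ Nat.card I * Nat.card I := Nat.mul_le_mul (by omega) (by omega)
      omega
    have := card_le_two_mul hJ (S := A ⊓ EE z) inf_le_right
    rw [← hI] at this
    omega
  · push Not at hex
    have h1 : Nat.card ↥(A ⊓ H0 z P) ≤ Nat.card ↥(A ⊓ EE z) :=
      Subgroup.card_le_of_le fun a ha => ⟨ha.1, hex a ha.1 ha.2⟩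
    have := X.card_inf_le hA
    omega

/-- The image in M22. -/
noncomputable def imgB : Subgroup ↥Cfsg.Spor.M22 := (A.subgroupOf (H0 z P)).map X.psi

theorem imgB_sq : ∀ b ∈ X.imgB (A := A), b * b = 1 := by
  rintro _ ⟨⟨a, ha⟩, haA, rfl⟩
  rw [← map_mul, show (⟨a, ha⟩ : ↥(H0 z P)) * ⟨a, ha⟩ = 1 from Subtype.ext (hA.sq a haA), map_one]

theorem cards : Nat.card (X.imgB (A := A)) = 16 ∧ Nat.card ↥(A ⊓ EE z) = 128 ∧
    Nat.card (imgV z (A ⊓ EE z)) = 2 ^ 6 := by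
  have hB16 : Nat.card (X.imgB (A := A)) ≤ 16 := rank_le X.hcard _ (X.imgB_sq hA)
  have h0 := X.le_H0 hA
  have h1 : Nat.card A ≤ Nat.card ↥(A ⊓ EE z) * Nat.card (X.imgB (A := A)) := by
    refine card_le_stab_mul A (A ⊓ EE z) (fun a => ⟨X.psi ⟨a, h0 a.2⟩, ⟨a, h0 a.2⟩, a.2, rfl⟩) fun a b e => ?_
    have hab : (a : G)⁻¹ * b ∈ A := mul_mem (inv_mem a.2) b.2
    refine ⟨hab, X.mem_EE_of_psi_one (h0 hab) (hA.sq _ hab) ?_⟩
    rw [show (⟨(a : G)⁻¹ * b, h0 hab⟩ : ↥(H0 z P)) = (⟨a, h0 a.2⟩)⁻¹ * ⟨b, h0 b.2⟩ from rfl,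
      map_mul, map_inv, inv_mul_eq_one]
    exact congrArg Subtype.val e
  have h2 := X.card_inf_le hA
  have h3 := card_le_two_mul X.L.J (S := A ⊓ EE z) inf_le_right
  have h4 := card_isotropic X.L.J (W := imgV z (A ⊓ EE z)) fun v hv w hw => X.isotropic hA hv hw
  rw [hA.card] at h1
  have h5 : 2 ^ 11 ≤ 128 * Nat.card (X.imgB (A := A)) := h1.trans (Nat.mul_le_mul_right _ h2)
  have h6 : 2 ^ 11 ≤ Nat.card ↥(A ⊓ EE z) * 16 := h1.trans (Nat.mul_le_mul_left _ hB16)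
  rw [show (2 : ℕ) ^ 11 = 2048 by norm_num] at h5 h6
  rw [show (2 : ℕ) ^ 6 = 64 by norm_num] at h4 ⊢
  omega

/-- An element of the subgroup acts as the lift with the same image. -/
theorem act_eq_lift {a : G} (ha : a ∈ A) {l : G} (hl : l ∈ X.LE)
    (e : X.psi ⟨a, X.le_H0 hA ha⟩ = X.π ⟨l, X.LE_le_CC hl⟩) (v : VV z) : act z a v = act z l v := by
  obtain ⟨c, hc, f, hf, rfl, hc2, hψ⟩ := X.dec_sq (X.le_H0 hA ha) (hA.sq a ha)
  rw [act_mul_EE X.L.J hc.1 hf]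
  exact X.lift_act_eq hc (X.LE_le_CC hl) hc2 hl.2.2 (hψ.symm.trans e) v

/-- A subgroup whose image contains `t` is the distinguished one. -/
theorem eq_std (ht : X.S.t ∈ X.imgB (A := A)) : A = X.std := by
  have hJ := X.L.J
  obtain ⟨hB, hAE, hI⟩ := X.cards hA
  obtain ⟨u, huB, huE, hu1, hut⟩ := exists_mem_inter X.hcard X.S hB (X.imgB_sq hA) ht
  obtain ⟨⟨at', hat0⟩, hatA, hat⟩ := ht
  obtain ⟨⟨au, hau0⟩, hauA, hau⟩ := huB
  obtain ⟨ct, hct, ect⟩ := X.t_lift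
  obtain ⟨cu, hcu, ecu⟩ := X.exists_lift huE
  have hIW : imgV z (A ⊓ EE z) = X.WV := by
    refine AddSubgroup.eq_of_le_of_card_ge (fun v hv => ?_) (by rw [hI, X.card_WV.1])
    refine X.fix_pair huE hu1 hut (X.LE_le_CC hct) (X.LE_le_CC hcu) hct.2.2 hcu.2.2 ect ecu ?_ ?_
    · rw [← X.act_eq_lift hA hatA hct (hat.trans ect.symm), X.fixed_img hA hatA hv]
    · rw [← X.act_eq_lift hA hauA hcu (hau.trans ecu.symm), X.fixed_img hA hauA hv]
  have hpre : preV hJ X.WV ≤ A := by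
    have hle : A ⊓ EE z ≤ preV hJ X.WV := fun x hx => ⟨hx.2, hIW ▸ vk_mem_imgV hx hx.2⟩
    have e := eq_of_le_of_card_ge hle (by rw [card_preV, X.card_WV.1, hAE]; norm_num)
    exact e ▸ inf_le_left
  refine eq_of_le_of_card_ge (fun a ha => ?_) (by rw [hA.card, X.std_eleven.card])
  obtain ⟨c, hc, e, he, rfl, hc2, hψ⟩ := X.dec_sq (X.le_H0 hA ha) (hA.sq _ ha)
  have hcW : ∀ w ∈ X.WV, act z c w = w := fun w hw => by
    rw [← act_mul_EE hJ hc.1 he]; exact X.fixed_img hA ha (hIW ▸ hw)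
  have hnil : ∀ d ∈ HH z, (∀ w ∈ X.WV, act z d w = w) → ∀ v, act z d v + v ∈ X.WV := fun d hd hfix v => by
    rw [← X.card_WV.2]
    intro w hw
    rw [BB_add_left hJ]
    conv_lhs => enter [1]; rw [← hfix w hw, BB_act hJ hd]
    exact CharTwo.add_self_eq_zero _
  have hcE : X.π ⟨c, hc⟩ ∈ X.S.E := by
    rw [← X.S.centralizer_E X.hcard, mem_centralizer_iff]
    intro m hm
    obtain ⟨l, hl, el⟩ := X.exists_lift hm
    have hlC := X.LE_le_CC hl
    have hlW : ∀ w ∈ X.WV, act z l w = w := fun w hw => hw l hl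
    have hcl : ∀ v, act z c (act z l v) = act z l (act z c v) := fun v => by
      have hc' : ∀ y, act z c y = y + (act z c y + y) := fun y => by
        rw [add_comm (act z c y) y, ← add_assoc, VV.two hJ, zero_add]
      have hl' : ∀ y, act z l y = y + (act z l y + y) := fun y => by
        rw [add_comm (act z l y) y, ← add_assoc, VV.two hJ, zero_add]
      conv_lhs => rw [hl' v, map_add, hcW _ (hnil l hlC.1 hlW v)]
      conv_rhs => rw [hc' v, map_add, hlW _ (hnil c hc.1 hcW v)]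
      abel
    let k : ↥(CC z P) := ⟨c, hc⟩ * ⟨l, hlC⟩ * (⟨l, hlC⟩ * ⟨c, hc⟩)⁻¹
    have hkE : (k : G) ∈ EE z := act_eq_id_mem hJ k.2.1 fun v => by
      show act z (c * l * (l * c)⁻¹) v = v
      have hlc : l * c ∈ HH z := mul_mem hlC.1 hc.1
      rw [act_mul (mul_mem hc.1 hlC.1) (inv_mem hlc), act_mul hc.1 hlC.1, hcl, ← act_mul hlC.1 hc.1,
        act_act_inv hlc]
    have hk1 : X.π k = 1 := (X.mem_ker_iff k).2 (mem_sup_right (hJ.CC_inf_EE k.2 hkE))
    rw [map_mul, map_inv, mul_inv_eq_one, map_mul, map_mul, el] at hk1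
    exact hk1.symm
  have hcLE : c ∈ X.LE := ⟨hc, hcE, hc2⟩
  have heV : e ∈ preV hJ X.WV := ⟨he, by
    rw [← X.card_WV.2]
    intro w hw
    obtain ⟨x, hx, rfl⟩ := vk_surj w
    have hxp : x ∈ preV hJ X.WV := ⟨hx, hw⟩
    have h1 : c * e * x = x * (c * e) := hA.comm _ ha x (hpre hxp)
    have h2 := X.LE_preV_comm hcLE hxp
    rw [BB_vk hJ he hx, cm_eq_zero]
    refine mul_left_cancel (a := c) ?_
    calc c * (e * x) = x * c * e := by rw [← mul_assoc, h1, mul_assoc]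
      _ = c * (x * e) := by rw [← h2, mul_assoc]⟩
  exact ⟨e, heV, c, hcLE, X.LE_preV_comm hcLE heV⟩

/-- Every such subgroup is conjugate to the distinguished one. -/
theorem exists_conj_std : ∃ d ∈ CC z P, cjS d A = X.std := by
  obtain ⟨hB, -, -⟩ := X.cards hA
  have hne : X.imgB (A := A) ≠ ⊥ := fun e => by rw [e, Subgroup.card_bot] at hB; omega
  obtain ⟨b, hb, hb1⟩ := (X.imgB (A := A)).bot_or_exists_ne_one.resolve_left hne
  obtain ⟨g, hg⟩ := isConj_iff.1 (M22Order.isConj_involution X.hcard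
    (orderOf_eq_prime (by rw [pow_two]; exact X.imgB_sq hA b hb) hb1) X.S.ht)
  obtain ⟨⟨d, hd⟩, hdg⟩ := X.surj g
  refine ⟨d, hd, X.eq_std (hA.conj hd.1) ?_⟩
  obtain ⟨⟨a, ha0⟩, haA, hab⟩ := hb
  have hd0 := CC_le_H0 z P hd
  refine ⟨⟨d, hd0⟩ * ⟨a, ha0⟩ * ⟨d, hd0⟩⁻¹, ⟨a, haA, rfl⟩, ?_⟩
  rw [map_mul, map_mul, map_inv, hab, X.psi_CC hd hd0, hdg, hg]

end Elementary

theorem std_le_H0 : X.std ≤ H0 z P := by
  rintro _ ⟨x, hx, c, hc, rfl⟩
  exact mul_mem (EE_le_H0 z P hx.1) (CC_le_H0 z P (X.LE_le_CC hc))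

/-- A 2-subgroup with the distinguished subgroup has no other one. -/
theorem eq_std_of_mem {T : Subgroup G} (hT : IsPGroup 2 T) (hstd : X.std ≤ T) {A : Subgroup G}
    (hA : Eleven z A) (hAT : A ≤ T) : A = X.std := by
  obtain ⟨d, hd, hdA⟩ := X.exists_conj_std hA
  have hd' : d⁻¹ ∈ CC z P := inv_mem hd
  set T0 := T.subgroupOf (H0 z P) with hT0
  have hT0p : IsPGroup 2 T0 := hT.comap_of_injective _ (H0 z P).subtype_injective
  have hnE : X.π ⟨d⁻¹, hd'⟩ ∈ normalizer (X.S.E : Set ↥Cfsg.Spor.M22) := by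
    refine mem_normalizer_of_common X.hcard X.S (hT0p.map X.psi) ?_ ?_
    · intro m hm
      obtain ⟨l, hl, el⟩ := X.exists_lift hm
      exact ⟨⟨l, CC_le_H0 z P (X.LE_le_CC hl)⟩, hstd (X.LE_le_std hl), (X.psi_CC _ _).trans el⟩
    · intro m hm
      obtain ⟨l, hl, el⟩ := X.exists_lift hm
      have hlC := X.LE_le_CC hl
      have hmem : d⁻¹ * l * d⁻¹⁻¹ ∈ A := by
        rw [inv_inv]
        have h1 : l ∈ cjS d A := hdA ▸ X.LE_le_std hl
        exact mem_cjS.1 h1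
      refine ⟨⟨d⁻¹ * l * d⁻¹⁻¹, CC_le_H0 z P (mul_mem (mul_mem hd' hlC) (inv_mem hd'))⟩, hAT hmem, ?_⟩
      rw [X.psi_CC (mul_mem (mul_mem hd' hlC) (inv_mem hd')), ← el, ← map_inv, ← map_mul, ← map_mul]
      rfl
  have hsub : cjS d⁻¹ X.std ≤ X.std := by
    rintro _ ⟨_, ⟨x, hx, c, hc, rfl⟩, rfl⟩
    refine ⟨d⁻¹ * x * d⁻¹⁻¹, ⟨conj_mem_EE hd'.1 hx.1, ?_⟩, d⁻¹ * c * d⁻¹⁻¹, X.conj_mem_LE hd' hnE hc, ?_⟩
    · rw [← act_vk hd'.1 hx.1]
      exact X.WV_invariant hd' hnE hx.2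
    · show d⁻¹ * (x * c) * d⁻¹⁻¹ = _
      group
  have hAs : A = cjS d⁻¹ X.std := by
    ext a
    rw [mem_cjS, ← hdA, mem_cjS, inv_inv, show d⁻¹ * (d * a * d⁻¹) * d = a by group]
  rw [hAs]
  exact eq_of_le_of_card_ge hsub (card_cjS _ _).ge

include X in
/-- A 2-subgroup of the centraliser of `z` has at most one such subgroup. -/
theorem unique {T : Subgroup G} (hT : IsPGroup 2 T) {A A' : Subgroup G}
    (hA : Eleven z A) (hA' : Eleven z A') (h : A ≤ T) (h' : A' ≤ T) : A = A' := by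
  obtain ⟨d, hd, hdA⟩ := X.exists_conj_std hA
  have he := X.eq_std_of_mem (hT.map (MulAut.conj d).toMonoidHom) (T := cjS d T)
    (hdA ▸ Subgroup.map_mono h) (hA'.conj hd.1) (Subgroup.map_mono h')
  exact Subgroup.map_injective (MulAut.conj d).injective (hdA.trans he.symm)

end Chart

theorem existsUnique_eleven (hJ : JType z P) (T : Sylow 2 G) (hTH : (T : Subgroup G) ≤ HH z) :
    ∃! V : Subgroup G, V ≤ (T : Subgroup G) ∧ Cfsg.IsElementaryAbelian 2 V ∧ Nat.card ↥V = 2 ^ 11 := by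
  haveI : Fact (Nat.Prime 2) := ⟨Nat.prime_two⟩
  obtain ⟨X⟩ := exists_chart hJ
  have hS := X.std_eleven
  have mk : ∀ V : Subgroup G, V ≤ (T : Subgroup G) → Cfsg.IsElementaryAbelian 2 V → Nat.card ↥V = 2 ^ 11 →
      Eleven z V := fun V hV hE hc => by
    refine ⟨hV.trans hTH, fun a ha => by rw [← pow_two]; exact hE.2 a ha, fun a ha b hb => ?_, hc⟩
    exact congrArg Subtype.val (hE.1.is_comm.comm (⟨a, ha⟩ : ↥V) ⟨b, hb⟩)
  have hp : IsPGroup 2 X.std := IsPGroup.of_card (n := 11) hS.card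
  obtain ⟨Q, hQ⟩ := hp.exists_le_sylow
  obtain ⟨g, hg⟩ := MulAction.exists_smul_eq G Q T
  have hgT : cjS g (Q : Subgroup G) = (T : Subgroup G) := by rw [← hg]; rfl
  set V := cjS g X.std with hV
  have hVT : V ≤ (T : Subgroup G) := hgT ▸ Subgroup.map_mono hQ
  have hVE : Cfsg.IsElementaryAbelian 2 V := by
    refine ⟨⟨⟨?_⟩⟩, ?_⟩
    · rintro ⟨_, a, ha, rfl⟩ ⟨_, b, hb, rfl⟩
      refine Subtype.ext ?_
      show (MulAut.conj g).toMonoidHom a * (MulAut.conj g).toMonoidHom b = _ * _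
      rw [← map_mul, hS.comm a ha b hb, map_mul]
    · rintro _ ⟨a, ha, rfl⟩
      rw [pow_two, ← map_mul, hS.sq a ha, map_one]
  have hVc : Nat.card V = 2 ^ 11 := by rw [hV, card_cjS, hS.card]
  refine ⟨V, ⟨hVT, hVE, hVc⟩, fun V' ⟨h1, h2, h3⟩ => ?_⟩
  exact X.unique T.isPGroup' (mk V' h1 h2 h3) (mk V hVT hVE hVc) h1 hVT

/-- A Sylow 2-subgroup has exactly one elementary abelian subgroup of order `2 ^ 11`. -/
theorem sylow_two_existsUnique_eleven (hJ : JType z P) (T : Sylow 2 G) :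
    ∃! V : Subgroup G, V ≤ (T : Subgroup G) ∧ Cfsg.IsElementaryAbelian 2 V ∧ Nat.card ↥V = 2 ^ 11 := by
  haveI : Fact (Nat.Prime 2) := ⟨Nat.prime_two⟩
  have hEp : IsPGroup 2 ↥(EE z) := IsPGroup.of_card (n := 13) hJ.cardE
  obtain ⟨Q, hQ⟩ := hEp.exists_le_sylow
  haveI : Nontrivial ↥(Q : Subgroup G) :=
    ⟨⟨⟨z, hQ hJ.ctr.z_mem⟩, 1, fun e => hJ.ctr.ne_one (congrArg Subtype.val e)⟩⟩
  haveI := Q.isPGroup'.center_nontrivial
  obtain ⟨⟨⟨x, hxQ⟩, hx⟩, hx1⟩ := exists_ne (1 : ↥(center ↥(Q : Subgroup G)))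
  have hxz : x = z := by
    have h1 : x ∈ centralizer (EE z : Set G) := mem_centralizer_iff.2 fun e he =>
      congrArg Subtype.val (mem_center_iff.1 hx ⟨e, hQ he⟩)
    rw [hJ.ctr.cent] at h1
    refine (hJ.mem_zpowers h1).resolve_left fun e => hx1 ?_
    subst e
    rfl
  obtain ⟨g, hg⟩ := MulAction.exists_smul_eq G Q T
  refine existsUnique_eleven (hJ.conj g) T ?_
  rw [← cjS_HH, ← hg, show ((g • Q : Sylow 2 G) : Subgroup G) = cjS g (Q : Subgroup G) from rfl]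
  refine Subgroup.map_mono fun y hy => mem_HH.2 ?_
  subst hxz
  exact congrArg Subtype.val (mem_center_iff.1 hx ⟨y, hy⟩)

end Cfsg.Agent.J4Eleven
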